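import Cfsg.Agent.Omega.AltRow.Nine

/-!
# The row `A_n` (helper974): from orbit numbers to the standard types
-/

set_option autoImplicit false
set_option maxRecDepth 100000

namespace Cfsg.Agent.Omega.AltRow

open Equiv

/-- two maps with the same statistics of fibre sizes are conjugate -/
theorem exists_perm {α Ω Γ : Type*} [Finite α] [Finite Ω] [Finite Γ] (f : α → Ω) (g : α → Γ)
    (h : ∀ s : ℕ, Nat.card {w : Ω // Nat.card {a // f a = w} = s} =
      Nat.card {c : Γ // Nat.card {a // g a = c} = s}) :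
    ∃ σ : Perm α, ∀ i j, g (σ i) = g (σ j) ↔ f i = f j := by
  classical
  let e : ∀ s : ℕ, {w : Ω // Nat.card {a // f a = w} = s} ≃ {c : Γ // Nat.card {a // g a = c} = s} :=
    fun s => Classical.choice (Finite.card_eq.1 (h s))
  let τ : Ω ≃ Γ := (Equiv.sigmaFiberEquiv fun w => Nat.card {a // f a = w}).symm.trans
    ((Equiv.sigmaCongrRight e).trans (Equiv.sigmaFiberEquiv fun c => Nat.card {a // g a = c}))
  have hτ : ∀ w, Nat.card {a // g a = τ w} = Nat.card {a // f a = w} := fun w =>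
    (e (Nat.card {a // f a = w}) ⟨w, rfl⟩).2
  let e' : ∀ w : Ω, {a // f a = w} ≃ {a // g a = τ w} := fun w =>
    Classical.choice (Finite.card_eq.1 (hτ w).symm)
  let σ : α ≃ α := (Equiv.sigmaFiberEquiv f).symm.trans
    ((Equiv.sigmaCongr τ e').trans (Equiv.sigmaFiberEquiv g))
  have hσ : ∀ i, g (σ i) = τ (f i) := fun i => (e' (f i) ⟨i, rfl⟩).2
  refine ⟨σ, fun i j => ?_⟩
  rw [hσ, hσ]
  exact τ.injective.eq_iff

/-- `Pr`-permutations with fibres of size at most four are determined by the values at base points -/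
theorem eq_of_base_pr {n : ℕ} {blk : Fin n → ℕ}
    (hc : ∀ i, (Finset.univ.filter (fun a => blk a = blk i)).card ≤ 4)
    {y y' : Perm (Fin n)} (hy : Pr blk y) (hy' : Pr blk y')
    (h : ∀ i, ∃ j, blk i = blk j ∧ y j = y' j) : y = y' := by
  refine Equiv.ext fun i => ?_
  obtain ⟨j, hij, hj⟩ := h i
  have sq : ∀ k, y (y k) = k := fun k => congrArg (fun g : Perm (Fin n) => g k) hy.1
  have sq' : ∀ k, y' (y' k) = k := fun k => congrArg (fun g : Perm (Fin n) => g k) hy'.1
  by_cases hyj : y j = j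
  · rw [hy.2.2 j i hij.symm hyj, hy'.2.2 j i hij.symm (hj ▸ hyj)]
  · by_contra hne
    have h1 : i ≠ j := by
      rintro rfl; exact hne hj
    have h2 : i ≠ y j := by
      rintro rfl
      apply hne
      rw [sq]
      rw [hj, sq']
    have h3 : y i ≠ i := fun h3 => hyj (hy.2.2 i j hij h3)
    have h4 : y' i ≠ i := fun h4 => hyj (hj.trans (hy'.2.2 i j hij h4))
    have h5 : y i ≠ j := by
      intro h5
      apply h2
      rw [← h5, sq]
    have h6 : y' i ≠ j := by
      intro h6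
      apply h2
      rw [hj, ← h6, sq']
    have h7 : y i ≠ y j := fun h7 => h1 (y.injective h7)
    have h8 : y' i ≠ y j := fun h8 => h1 (y'.injective (h8.trans hj))
    have h9 : ({j, y j, i, y i, y' i} : Finset (Fin n)) ⊆
        Finset.univ.filter (fun a => blk a = blk i) := by
      intro k hk
      simp only [Finset.mem_insert, Finset.mem_singleton] at hk
      rw [Finset.mem_filter]
      refine ⟨Finset.mem_univ _, ?_⟩
      rcases hk with rfl | rfl | rfl | rfl | rfl
      · exact hij.symm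
      · rw [hy.2.1]; exact hij.symm
      · rfl
      · exact hy.2.1 _
      · exact hy'.2.1 _
    have h10 : ({j, y j, i, y i, y' i} : Finset (Fin n)).card = 5 := by
      rw [Finset.card_insert_of_notMem, Finset.card_insert_of_notMem,
        Finset.card_insert_of_notMem, Finset.card_insert_of_notMem, Finset.card_singleton]
      · simp only [Finset.mem_singleton]; exact hne
      · simp only [Finset.mem_insert, Finset.mem_singleton]
        rintro (h | h)
        · exact h3 h.symm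
        · exact h4 h.symm
      · simp only [Finset.mem_insert, Finset.mem_singleton]
        rintro (h | h | h)
        · exact h2 h.symm
        · exact h7 h.symm
        · exact h8 h.symm
      · simp only [Finset.mem_insert, Finset.mem_singleton]
        rintro (h | h | h | h)
        · exact hyj h.symm
        · exact h1 h.symm
        · exact h5 h.symm
        · exact h6 h.symm
    have h11 := Finset.card_le_card h9
    rw [h10] at h11
    have := hc i
    omega

theorem card_two : Nat.card {y : Perm (Fin 10) // Pr blkTwo y} ≤ 32 := by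
  let F : {y : Perm (Fin 10) // Pr blkTwo y} → {c // blkTwo c = 0} × {c // blkTwo c = 1} ×
      {c // blkTwo c = 2} × {c // blkTwo c = 3} × {c // blkTwo c = 4} := fun y =>
    (⟨y.1 0, y.2.2.1 0⟩, ⟨y.1 2, y.2.2.1 2⟩, ⟨y.1 4, y.2.2.1 4⟩, ⟨y.1 6, y.2.2.1 6⟩,
      ⟨y.1 8, y.2.2.1 8⟩)
  have hF : Function.Injective F := by
    rintro ⟨y, hy⟩ ⟨y', hy'⟩ h
    apply Subtype.ext
    have h0 : y 0 = y' 0 := congrArg (fun x => (x.1 : Fin 10)) h
    have h2 : y 2 = y' 2 := congrArg (fun x => (x.2.1 : Fin 10)) h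
    have h4 : y 4 = y' 4 := congrArg (fun x => (x.2.2.1 : Fin 10)) h
    have h6 : y 6 = y' 6 := congrArg (fun x => (x.2.2.2.1 : Fin 10)) h
    have h8 : y 8 = y' 8 := congrArg (fun x => (x.2.2.2.2 : Fin 10)) h
    refine eq_of_base_pr (by decide +kernel) hy hy' fun i => ?_
    fin_cases i
    · exact ⟨0, rfl, h0⟩
    · exact ⟨0, rfl, h0⟩
    · exact ⟨2, rfl, h2⟩
    · exact ⟨2, rfl, h2⟩
    · exact ⟨4, rfl, h4⟩
    · exact ⟨4, rfl, h4⟩
    · exact ⟨6, rfl, h6⟩
    · exact ⟨6, rfl, h6⟩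
    · exact ⟨8, rfl, h8⟩
    · exact ⟨8, rfl, h8⟩
  refine (Nat.card_le_card_of_injective F hF).trans ?_
  rw [Nat.card_eq_fintype_card]
  decide +kernel

theorem card_ten : Nat.card {y : Perm (Fin 10) // Pr blkTen y} ≤ 32 := by
  let F : {y : Perm (Fin 10) // Pr blkTen y} → {c // blkTen c = 0} × {c // blkTen c = 1} ×
      {c // blkTen c = 2} := fun y =>
    (⟨y.1 0, y.2.2.1 0⟩, ⟨y.1 4, y.2.2.1 4⟩, ⟨y.1 8, y.2.2.1 8⟩)
  have hF : Function.Injective F := by
    rintro ⟨y, hy⟩ ⟨y', hy'⟩ h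
    apply Subtype.ext
    have h0 : y 0 = y' 0 := congrArg (fun x => (x.1 : Fin 10)) h
    have h4 : y 4 = y' 4 := congrArg (fun x => (x.2.1 : Fin 10)) h
    have h8 : y 8 = y' 8 := congrArg (fun x => (x.2.2 : Fin 10)) h
    refine eq_of_base_pr (by decide +kernel) hy hy' fun i => ?_
    fin_cases i
    · exact ⟨0, rfl, h0⟩
    · exact ⟨0, rfl, h0⟩
    · exact ⟨0, rfl, h0⟩
    · exact ⟨0, rfl, h0⟩
    · exact ⟨4, rfl, h4⟩
    · exact ⟨4, rfl, h4⟩
    · exact ⟨4, rfl, h4⟩
    · exact ⟨4, rfl, h4⟩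
    · exact ⟨8, rfl, h8⟩
    · exact ⟨8, rfl, h8⟩
  refine (Nat.card_le_card_of_injective F hF).trans ?_
  rw [Nat.card_eq_fintype_card]
  decide +kernel

theorem card_twelve : Nat.card {y : Perm (Fin 12) // Pr blkTwelve y} ≤ 64 := by
  let F : {y : Perm (Fin 12) // Pr blkTwelve y} → {c // blkTwelve c = 0} × {c // blkTwelve c = 1} ×
      {c // blkTwelve c = 2} := fun y =>
    (⟨y.1 0, y.2.2.1 0⟩, ⟨y.1 4, y.2.2.1 4⟩, ⟨y.1 8, y.2.2.1 8⟩)
  have hF : Function.Injective F := by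
    rintro ⟨y, hy⟩ ⟨y', hy'⟩ h
    apply Subtype.ext
    have h0 : y 0 = y' 0 := congrArg (fun x => (x.1 : Fin 12)) h
    have h4 : y 4 = y' 4 := congrArg (fun x => (x.2.1 : Fin 12)) h
    have h8 : y 8 = y' 8 := congrArg (fun x => (x.2.2 : Fin 12)) h
    refine eq_of_base_pr (by decide +kernel) hy hy' fun i => ?_
    fin_cases i
    · exact ⟨0, rfl, h0⟩
    · exact ⟨0, rfl, h0⟩
    · exact ⟨0, rfl, h0⟩
    · exact ⟨0, rfl, h0⟩
    · exact ⟨4, rfl, h4⟩
    · exact ⟨4, rfl, h4⟩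
    · exact ⟨4, rfl, h4⟩
    · exact ⟨4, rfl, h4⟩
    · exact ⟨8, rfl, h8⟩
    · exact ⟨8, rfl, h8⟩
    · exact ⟨8, rfl, h8⟩
    · exact ⟨8, rfl, h8⟩
  refine (Nat.card_le_card_of_injective F hF).trans ?_
  rw [Nat.card_eq_fintype_card]
  decide +kernel

theorem card_nine : Nat.card {y : Perm (Fin 9) // Pr blkNine y} ≤ 16 := by
  let F : {y : Perm (Fin 9) // Pr blkNine y} → {c // blkNine c = 0} × {c // blkNine c = 1} ×
      {c // blkNine c = 2} := fun y =>
    (⟨y.1 0, y.2.2.1 0⟩, ⟨y.1 4, y.2.2.1 4⟩, ⟨y.1 8, y.2.2.1 8⟩)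
  have hF : Function.Injective F := by
    rintro ⟨y, hy⟩ ⟨y', hy'⟩ h
    apply Subtype.ext
    have h0 : y 0 = y' 0 := congrArg (fun x => (x.1 : Fin 9)) h
    have h4 : y 4 = y' 4 := congrArg (fun x => (x.2.1 : Fin 9)) h
    have h8 : y 8 = y' 8 := congrArg (fun x => (x.2.2 : Fin 9)) h
    refine eq_of_base_pr (by decide +kernel) hy hy' fun i => ?_
    fin_cases i
    · exact ⟨0, rfl, h0⟩
    · exact ⟨0, rfl, h0⟩
    · exact ⟨0, rfl, h0⟩
    · exact ⟨0, rfl, h0⟩
    · exact ⟨4, rfl, h4⟩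
    · exact ⟨4, rfl, h4⟩
    · exact ⟨4, rfl, h4⟩
    · exact ⟨4, rfl, h4⟩
    · exact ⟨8, rfl, h8⟩
  refine (Nat.card_le_card_of_injective F hF).trans ?_
  rw [Nat.card_eq_fintype_card]
  decide +kernel

/-- the standard form of an elementary abelian permutation group of full order -/
theorem exists_std {n N : ℕ} {Y : Subgroup (Perm (Fin n))} (hsq : ∀ y ∈ Y, y * y = 1)
    {k : ℕ} (std : Fin n → ℕ) (lb : Fin n → Fin k) (hlb : ∀ i, std i = (lb i : ℕ))
    (hle : Nat.card {y : Perm (Fin n) // Pr std y} ≤ N) (hN : N ≤ Nat.card Y)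
    (hstat : ∀ s : ℕ, Nat.card {w : MulAction.orbitRel.Quotient Y (Fin n) //
        Nat.card {a // (Quotient.mk _ a : MulAction.orbitRel.Quotient Y (Fin n)) = w} = s} =
      Nat.card {c : Fin k // Nat.card {a // lb a = c} = s}) :
    ∃ σ : Perm (Fin n), ∀ y, σ⁻¹ * y * σ ∈ Y ↔ Pr std y := by
  obtain ⟨σ, hσ⟩ := exists_perm
    (fun a : Fin n => (Quotient.mk _ a : MulAction.orbitRel.Quotient Y (Fin n))) lb hstat
  have hσ' : ∀ i j, std (σ i) = std (σ j) ↔
      (Quotient.mk _ i : MulAction.orbitRel.Quotient Y (Fin n)) = Quotient.mk _ j := by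
    intro i j
    rw [← hσ, hlb, hlb]
    exact Fin.val_inj
  have hcomm : ∀ x ∈ Y, ∀ y ∈ Y, x * y = y * x := by
    intro x hx y hy
    have h1 := hsq _ (Y.mul_mem hx hy)
    have h2 := hsq x hx
    have h3 := hsq y hy
    calc x * y = (y * y) * (x * y) * (x * x) := by rw [h2, h3]; group
      _ = y * (y * x * y * x) * x := by group
      _ = y * ((x * x) * (y * x * y * x)) * x := by rw [h2]; group
      _ = y * (x * ((x * y) * (x * y)) * x) * x := by group
      _ = y * (x * x) * x := by rw [h1]; group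
      _ = y * x := by rw [h2]; group
  have h1 : ∀ y ∈ Y, Pr std (σ * y * σ⁻¹) := by
    intro y hy
    refine ⟨?_, ?_, ?_⟩
    · calc (σ * y * σ⁻¹) * (σ * y * σ⁻¹) = σ * (y * y) * σ⁻¹ := by group
        _ = 1 := by rw [hsq y hy]; group
    · intro i
      obtain ⟨j, rfl⟩ := σ.surjective i
      have e1 : (σ * y * σ⁻¹) (σ j) = σ (y j) := by
        show σ (y (σ⁻¹ (σ j))) = _
        rw [inv_ap]
      rw [e1, hσ']
      exact Quotient.sound ⟨⟨y, hy⟩, rfl⟩
    · intro i i' hii hi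
      obtain ⟨j, rfl⟩ := σ.surjective i
      obtain ⟨j', rfl⟩ := σ.surjective i'
      have e1 : ∀ j, (σ * y * σ⁻¹) (σ j) = σ (y j) := by
        intro j
        show σ (y (σ⁻¹ (σ j))) = _
        rw [inv_ap]
      rw [e1] at hi ⊢
      have h2 := σ.injective hi
      obtain ⟨⟨z, hz⟩, hzj⟩ := Quotient.exact ((hσ' _ _).1 hii)
      have h3 : z j' = j := hzj
      have h4 : y (z j') = z (y j') := congrArg (fun g : Perm (Fin n) => g j') (hcomm y hy z hz)
      rw [h3, h2] at h4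
      have h5 : z j' = z (y j') := h3.trans h4
      rw [← z.injective h5]
  refine ⟨σ, fun y => ⟨fun hy => ?_, fun hy => ?_⟩⟩
  · have := h1 _ hy
    have e1 : σ * (σ⁻¹ * y * σ) * σ⁻¹ = y := by group
    rwa [e1] at this
  · let F : Y → {y : Perm (Fin n) // Pr std y} := fun y => ⟨σ * y.1 * σ⁻¹, h1 y.1 y.2⟩
    have hF : Function.Injective F := by
      intro x y hxy
      have h2 : σ * (x : Perm (Fin n)) * σ⁻¹ = σ * (y : Perm (Fin n)) * σ⁻¹ :=
        congrArg Subtype.val hxy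
      exact Subtype.ext (mul_left_cancel (mul_right_cancel h2))
    have hFb := hF.bijective_of_nat_card_le (hle.trans hN)
    obtain ⟨x, hx⟩ := hFb.2 ⟨y, hy⟩
    have h2 : σ * (x : Perm (Fin n)) * σ⁻¹ = y := congrArg Subtype.val hx
    have e1 : σ⁻¹ * (σ * (x : Perm (Fin n)) * σ⁻¹) * σ = x := by group
    rw [← h2, e1]
    exact x.2

end Cfsg.Agent.Omega.AltRow
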