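import Cfsg.Agent.Omega.AltRow.Adapt

/-!
# The row `A_n` (helper974): the alive types given by orbit numbers are dead

`orbs Y s` is the number of orbits of `Y` of length `s`.
-/

set_option autoImplicit false
set_option maxRecDepth 100000

namespace Cfsg.Agent.Omega.AltRow

open Equiv Cfsg.Agent.Omega.W5.NearTI

section count

variable {Ω : Type*} [Fintype Ω] (size : Ω → ℕ)

theorem card_filter_eq (s : ℕ) :
    (Finset.univ.filter fun w => size w = s).card = Nat.card {w : Ω // size w = s} := by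
  rw [Nat.card_eq_fintype_card, Fintype.card_subtype]

theorem sum_split (s : ℕ) (P : Ω → Prop) [DecidablePred P] :
    ∑ w ∈ Finset.univ.filter P, size w =
      (Finset.univ.filter fun w => P w ∧ size w = s).card * s +
      ∑ w ∈ Finset.univ.filter (fun w => P w ∧ size w ≠ s), size w := by
  rw [← Finset.sum_filter_add_sum_filter_not (Finset.univ.filter P) (fun w => size w = s),
    Finset.filter_filter, Finset.filter_filter]
  congr 1
  rw [Finset.sum_congr rfl (g := fun _ => s) (fun w hw => (Finset.mem_filter.1 hw).2.2),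
    Finset.sum_const, smul_eq_mul]

theorem all_one (pos : ∀ w, 0 < size w) {n s c : ℕ} (hn : ∑ w, size w = n)
    (hc : Nat.card {w : Ω // size w = s} = c) (h : n = c * s) : ∀ w, size w = s := by
  intro w
  by_contra hw
  have h1 := sum_split size s (fun _ => True)
  simp only [true_and, Finset.filter_true] at h1
  rw [hn, card_filter_eq, hc, ← h] at h1
  have h2 : ∑ w ∈ Finset.univ.filter (fun w => size w ≠ s), size w = 0 := by
    simp only [ne_eq]
    simp only [ne_eq] at h1
    omega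
  have h3 := Finset.sum_eq_zero_iff.1 h2 w (Finset.mem_filter.2 ⟨Finset.mem_univ _, hw⟩)
  have := pos w
  omega

theorem all_two (pos : ∀ w, 0 < size w) {n s t c d : ℕ} (hst : s ≠ t) (hn : ∑ w, size w = n)
    (hc : Nat.card {w : Ω // size w = s} = c) (hd : Nat.card {w : Ω // size w = t} = d)
    (h : n = c * s + d * t) : ∀ w, size w = s ∨ size w = t := by
  intro w
  by_contra hw
  push Not at hw
  have h1 := sum_split size s (fun _ => True)
  simp only [true_and, Finset.filter_true] at h1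
  rw [hn, card_filter_eq, hc] at h1
  have h2 := sum_split size t (fun w => size w ≠ s)
  have e1 : (Finset.univ.filter fun w => size w ≠ s ∧ size w = t) =
      Finset.univ.filter fun w => size w = t := by
    ext w
    simp only [Finset.mem_filter, Finset.mem_univ, true_and]
    constructor
    · exact fun h => h.2
    · exact fun h => ⟨fun h' => hst (h'.symm.trans h), h⟩
  rw [e1, card_filter_eq, hd] at h2
  rw [h2] at h1
  have h3 : ∑ w ∈ Finset.univ.filter (fun w => size w ≠ s ∧ size w ≠ t), size w = 0 := by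
    omega
  have h4 := Finset.sum_eq_zero_iff.1 h3 w (Finset.mem_filter.2 ⟨Finset.mem_univ _, hw⟩)
  have := pos w
  omega

end count

/-- the length of an orbit -/
noncomputable def len {n : ℕ} (Y : Subgroup (Perm (Fin n))) (w : MulAction.orbitRel.Quotient Y (Fin n)) : ℕ :=
  Nat.card {a // (Quotient.mk _ a : MulAction.orbitRel.Quotient Y (Fin n)) = w}

/-- the number of orbits of length `s` -/
noncomputable def orbs {n : ℕ} (Y : Subgroup (Perm (Fin n))) (s : ℕ) : ℕ :=
  Nat.card {w : MulAction.orbitRel.Quotient Y (Fin n) // len Y w = s}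

theorem len_pos {n : ℕ} (Y : Subgroup (Perm (Fin n))) (w : MulAction.orbitRel.Quotient Y (Fin n)) :
    0 < len Y w := by
  obtain ⟨a, rfl⟩ := Quotient.exists_rep w
  exact Nat.card_pos_iff.2 ⟨⟨⟨a, rfl⟩⟩, inferInstance⟩

theorem len_eq_card_orbit {n : ℕ} (Y : Subgroup (Perm (Fin n)))
    (w : MulAction.orbitRel.Quotient Y (Fin n)) : len Y w = Nat.card w.orbit := by
  refine Nat.card_congr (Equiv.subtypeEquivRight fun a => ?_)
  exact MulAction.orbitRel.Quotient.mem_orbit.symm

theorem sum_len {n : ℕ} (Y : Subgroup (Perm (Fin n)))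
    [Fintype (MulAction.orbitRel.Quotient Y (Fin n))] : ∑ w, len Y w = n := by
  have h := Nat.card_congr (Equiv.sigmaFiberEquiv
    (fun a : Fin n => (Quotient.mk _ a : MulAction.orbitRel.Quotient Y (Fin n))))
  rw [Nat.card_sigma, Nat.card_eq_fintype_card (α := Fin n), Fintype.card_fin] at h
  exact h

theorem stat_of {n k s t c d : ℕ} {Y : Subgroup (Perm (Fin n))} (lb : Fin n → Fin k)
    (hst : s ≠ t) (hc : orbs Y s = c) (hd : orbs Y t = d) (hn : n = c * s + d * t)
    (hc' : Nat.card {x : Fin k // Nat.card {a // lb a = x} = s} = c)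
    (hd' : Nat.card {x : Fin k // Nat.card {a // lb a = x} = t} = d)
    (hall : ∀ x : Fin k, Nat.card {a // lb a = x} = s ∨ Nat.card {a // lb a = x} = t) (r : ℕ) :
    Nat.card {w : MulAction.orbitRel.Quotient Y (Fin n) //
        Nat.card {a // (Quotient.mk _ a : MulAction.orbitRel.Quotient Y (Fin n)) = w} = r} =
      Nat.card {x : Fin k // Nat.card {a // lb a = x} = r} := by
  classical
  have : Fintype (MulAction.orbitRel.Quotient Y (Fin n)) := Fintype.ofFinite _
  have h1 := all_two (len Y) (len_pos Y) hst (sum_len Y) hc hd hn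
  by_cases hr : r = s
  · subst hr; exact hc.trans hc'.symm
  by_cases hr' : r = t
  · subst hr'; exact hd.trans hd'.symm
  have e1 : IsEmpty {w : MulAction.orbitRel.Quotient Y (Fin n) //
      Nat.card {a // (Quotient.mk _ a : MulAction.orbitRel.Quotient Y (Fin n)) = w} = r} := by
    refine ⟨fun w => ?_⟩
    rcases h1 w.1 with h | h
    · exact hr (w.2.symm.trans h)
    · exact hr' (w.2.symm.trans h)
  have e2 : IsEmpty {x : Fin k // Nat.card {a // lb a = x} = r} := by
    refine ⟨fun w => ?_⟩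
    rcases hall w.1 with h | h
    · exact hr (w.2.symm.trans h)
    · exact hr' (w.2.symm.trans h)
  rw [Nat.card_of_isEmpty, Nat.card_of_isEmpty]

variable {V : Type*} [AddCommGroup V] [Module (ZMod 2) V]
  {b : LinearMap.BilinForm (ZMod 2) V} {H X : Subgroup (V ≃ₗ[ZMod 2] V)}
  {D : Submodule (ZMod 2) V} {e : V}

def lbTwo : Fin 10 → Fin 5 := ![0, 0, 1, 1, 2, 2, 3, 3, 4, 4]

def lbTen : Fin 10 → Fin 3 := ![0, 0, 0, 0, 1, 1, 1, 1, 2, 2]

def lbTwelve : Fin 12 → Fin 3 := ![0, 0, 0, 0, 1, 1, 1, 1, 2, 2, 2, 2]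

/-- conjugate the permutation representation -/
theorem conj_setup {n : ℕ} {φ : H →* Perm (Fin n)}
    (hinj : Function.Injective φ)
    (halt : alternatingGroup (Fin n) ≤ φ.range) {Y : Subgroup (Perm (Fin n))} (hYr : Y ≤ φ.range)
    (hY : ∀ f : H, (f : V ≃ₗ[ZMod 2] V) ∈ X ↔ φ f ∈ Y) {std : Fin n → ℕ}
    (h : ∃ σ : Perm (Fin n), ∀ y, σ⁻¹ * y * σ ∈ Y ↔ Pr std y) :
    ∃ (ψ : H →* Perm (Fin n)) (Z : Subgroup (Perm (Fin n))), Function.Injective ψ ∧
      alternatingGroup (Fin n) ≤ ψ.range ∧ Z ≤ ψ.range ∧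
      (∀ f : H, (f : V ≃ₗ[ZMod 2] V) ∈ X ↔ ψ f ∈ Z) ∧ ∀ y, y ∈ Z ↔ Pr std y := by
  obtain ⟨σ, hσ⟩ := h
  have hm : ∀ y, y ∈ Y.map (MulAut.conj σ).toMonoidHom ↔ σ⁻¹ * y * σ ∈ Y := by
    intro y
    constructor
    · rintro ⟨x, hx, rfl⟩
      have : σ⁻¹ * ((MulAut.conj σ).toMonoidHom x) * σ = x := by
        show σ⁻¹ * (σ * x * σ⁻¹) * σ = x
        group
      rw [this]; exact hx
    · intro h
      refine ⟨_, h, ?_⟩
      show σ * (σ⁻¹ * y * σ) * σ⁻¹ = y
      group
  refine ⟨(MulAut.conj σ).toMonoidHom.comp φ, Y.map (MulAut.conj σ).toMonoidHom,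
    (MulAut.conj σ).injective.comp hinj, ?_, ?_, ?_, ?_⟩
  · intro g hg
    obtain ⟨k, hk⟩ := halt ((inferInstance : (alternatingGroup (Fin n)).Normal).conj_mem g hg σ⁻¹)
    refine ⟨k, ?_⟩
    show σ * φ k * σ⁻¹ = g
    rw [hk]; group
  · rintro _ ⟨x, hx, rfl⟩
    obtain ⟨k, rfl⟩ := hYr hx
    exact ⟨k, rfl⟩
  · intro f
    rw [hm, hY]
    have : σ⁻¹ * ((MulAut.conj σ).toMonoidHom.comp φ) f * σ = φ f := by
      show σ⁻¹ * (σ * φ f * σ⁻¹) * σ = φ f
      group
    rw [this]
  · intro y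
    rw [hm, hσ]

/-- **the alive types are dead** -/
theorem dead_of_orbs [Finite V] (S : Sys b H X D e) {n : ℕ} {φ : H →* Perm (Fin n)}
    (hinj : Function.Injective φ)
    (halt : alternatingGroup (Fin n) ≤ φ.range) {Y : Subgroup (Perm (Fin n))} (hYr : Y ≤ φ.range)
    (hY : ∀ f : H, (f : V ≃ₗ[ZMod 2] V) ∈ X ↔ φ f ∈ Y)
    (type : (n = 9 ∧ orbs Y 4 = 2 ∧ orbs Y 1 = 1 ∧ 16 ≤ Nat.card Y) ∨
      (n = 10 ∧ orbs Y 2 = 5 ∧ orbs Y 1 = 0 ∧ 32 ≤ Nat.card Y) ∨
      (n = 10 ∧ orbs Y 4 = 2 ∧ orbs Y 2 = 1 ∧ 32 ≤ Nat.card Y) ∨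
      (n = 12 ∧ orbs Y 4 = 3 ∧ orbs Y 1 = 0 ∧ 64 ≤ Nat.card Y)) : False := by
  have hsq : ∀ y ∈ Y, y * y = 1 := by
    intro y hy
    obtain ⟨f, rfl⟩ := hYr hy
    have h1 := S.X_sq _ ((hY f).2 hy)
    have h2 : f * f = 1 := Subtype.ext h1
    rw [← map_mul, h2, map_one]
  rcases type with ⟨rfl, h1, h2, h3⟩ | ⟨rfl, h1, h2, h3⟩ | ⟨rfl, h1, h2, h3⟩ | ⟨rfl, h1, h2, h3⟩
  · obtain ⟨ψ, Z, hψ, hψa, hZr, hZ, hZP⟩ := conj_setup hinj halt hYr hY
      (exists_std hsq blkNine lab (by decide +kernel) card_nine h3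
        (stat_of _ (by norm_num) h1 h2 (by norm_num)
          (by simp only [Nat.card_eq_fintype_card]; decide +kernel)
          (by simp only [Nat.card_eq_fintype_card]; decide +kernel)
          (by simp only [Nat.card_eq_fintype_card]; decide +kernel)))
    exact dead_nine S hψa hZr hZ hZP
  · obtain ⟨ψ, Z, hψ, hψa, hZr, hZ, hZP⟩ := conj_setup hinj halt hYr hY
      (exists_std hsq blkTwo lbTwo (by decide +kernel) card_two h3
        (stat_of _ (by norm_num) h1 h2 (by norm_num)
          (by simp only [Nat.card_eq_fintype_card]; decide +kernel)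
          (by simp only [Nat.card_eq_fintype_card]; decide +kernel)
          (by simp only [Nat.card_eq_fintype_card]; decide +kernel)))
    exact dead_two S hψ hψa hZr hZ hZP
  · obtain ⟨ψ, Z, hψ, hψa, hZr, hZ, hZP⟩ := conj_setup hinj halt hYr hY
      (exists_std hsq blkTen lbTen (by decide +kernel) card_ten h3
        (stat_of _ (by norm_num) h1 h2 (by norm_num)
          (by simp only [Nat.card_eq_fintype_card]; decide +kernel)
          (by simp only [Nat.card_eq_fintype_card]; decide +kernel)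
          (by simp only [Nat.card_eq_fintype_card]; decide +kernel)))
    exact dead_ten S hψ hψa hZr hZ hZP
  · obtain ⟨ψ, Z, hψ, hψa, hZr, hZ, hZP⟩ := conj_setup hinj halt hYr hY
      (exists_std hsq blkTwelve lbTwelve (by decide +kernel)
        card_twelve h3
        (stat_of _ (by norm_num) h1 h2 (by norm_num)
          (by simp only [Nat.card_eq_fintype_card]; decide +kernel)
          (by simp only [Nat.card_eq_fintype_card]; decide +kernel)
          (by simp only [Nat.card_eq_fintype_card]; decide +kernel)))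
    exact dead_twelve S hψ hψa hZr hZ hZP

end Cfsg.Agent.Omega.AltRow
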