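import Cfsg.Agent.Omega.AltRow.Shape
import Cfsg.Agent.Omega.AltRow.Final
import Cfsg.Agent.Omega.EH3.Count
import Cfsg.Agent.Omega.EH3.TForm
import Cfsg.Agent.Omega.EH3.ToSys

/-!
# The counting argument for `A_n`, `n ≥ 10` (helper77)

`exc_of_index`: `Y ≤ Hb ≤ Sym(n)`, `A_n ≤ Hb`, `Y` elementary abelian of order `2^r`, `r ≥ 5`, `n ≥ 10`,
`|Hb : N_Hb(Y)| ≤ 2·4^r + 2^r - 1` ⟹ `n = 10` and the orbits are `2^5` or `4^2 2`, or `n = 12` and the orbits are `4^3`,
and `Y` is the full product, and `3 |Hb : N_Hb(Y)| > 2·4^r + 2^r - 1`.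
-/

set_option autoImplicit false

namespace Cfsg.Agent.Omega.AltRow.Count

open PermBound NumBound Shape Equiv
open scoped Nat

section idx

variable {n : ℕ} {Hb Y : Subgroup (Perm (Fin n))}

theorem card_perm_fin (n : ℕ) : Nat.card (Perm (Fin n)) = n ! := by
  rw [Nat.card_eq_fintype_card, Fintype.card_perm, Fintype.card_fin]

/-- `n! ≤ 2 |Hb : N| |N(Y)|` -/
theorem fact_le_two (halt : alternatingGroup (Fin n) ≤ Hb) (hn : 2 ≤ n) (N : Subgroup (Perm (Fin n))) :
    n ! ≤ 2 * (N.relIndex Hb * Nat.card N) := by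
  have : Nontrivial (Fin n) := Fin.nontrivial_iff_two_le.2 hn
  have h1 : 2 * Nat.card (alternatingGroup (Fin n)) = n ! := by
    rw [Nat.card_eq_fintype_card, two_mul_card_alternatingGroup, Fintype.card_perm, Fintype.card_fin]
  have h2 : Nat.card (alternatingGroup (Fin n)) ≤ Nat.card Hb := Subgroup.card_le_of_le halt
  have h3 : Nat.card Hb = N.relIndex Hb * Nat.card (N ⊓ Hb : Subgroup (Perm (Fin n))) := by
    have h := (N.subgroupOf Hb).index_mul_card
    rw [← h, Subgroup.relIndex]
    congr 1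
    rw [← Subgroup.inf_subgroupOf_right]
    exact Nat.card_congr (Subgroup.subgroupOfEquivOfLe inf_le_right).toEquiv
  have h4 : Nat.card (N ⊓ Hb : Subgroup (Perm (Fin n))) ≤ Nat.card N := Subgroup.card_le_of_le inf_le_left
  rw [← h1]
  refine Nat.mul_le_mul_left _ (h2.trans ?_)
  rw [h3]
  exact Nat.mul_le_mul_left _ h4

/-- `n! ≤ |Hb : N| |N(Y)|` if `N` contains a transposition -/
theorem fact_le_one (halt : alternatingGroup (Fin n) ≤ Hb) (N : Subgroup (Perm (Fin n)))
    {u : Perm (Fin n)} (hu : u ∈ N) (hs : Perm.sign u = -1) :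
    n ! ≤ N.relIndex Hb * Nat.card N := by
  -- `N Hb = Sym(n)`: the index of `N` is at most the relative index
  have h1 : N.index ≤ N.relIndex Hb := by
    have : Finite (Hb ⧸ N.subgroupOf Hb) := inferInstance
    refine Nat.card_le_card_of_surjective
      (fun x : Hb ⧸ N.subgroupOf Hb => Quotient.map' (s₂ := QuotientGroup.leftRel N) (fun h : Hb => (h : Perm (Fin n))) ?_ x) ?_
    · intro g h hgh
      rw [QuotientGroup.leftRel_apply] at hgh ⊢
      exact hgh
    · intro y
      induction y using Quotient.inductionOn' with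
      | h g =>
        have hcase : g ∈ Hb ∨ g * u ∈ Hb := by
          rcases Int.units_eq_one_or (Perm.sign g) with h | h
          · exact Or.inl (halt (Perm.mem_alternatingGroup.2 h))
          · right
            apply halt
            rw [Perm.mem_alternatingGroup, map_mul, h, hs]; rfl
        rcases hcase with h | h
        · exact ⟨Quotient.mk'' ⟨g, h⟩, rfl⟩
        · refine ⟨Quotient.mk'' ⟨g * u, h⟩, ?_⟩
          show (Quotient.mk'' (g * u) : Perm (Fin n) ⧸ N) = Quotient.mk'' g
          rw [Quotient.eq'', QuotientGroup.leftRel_apply]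
          have : (g * u)⁻¹ * g = u⁻¹ := by group
          rw [this]; exact N.inv_mem hu
  have h2 := N.index_mul_card
  rw [card_perm_fin] at h2
  rw [← h2]
  exact Nat.mul_le_mul_right _ h1

variable {r : ℕ}

theorem bound_le (hr : 4 ≤ r) : 16 * (2 * 4 ^ r + 2 ^ r) ≤ 33 * 4 ^ r := by
  have h1 : (4 : ℕ) ^ r = 2 ^ r * 2 ^ r := by rw [← mul_pow]; norm_num
  have h2 : 16 ≤ 2 ^ r := by
    calc 16 = 2 ^ 4 := rfl
      _ ≤ 2 ^ r := Nat.pow_le_pow_right (by norm_num) hr
  rw [h1]
  nlinarith

/-- the main inequality: with `ε = 2` (or `ε = 1` if there is an odd element), `j` = multiplicity -/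
theorem main_le (hr : 4 ≤ r) {j c i : ℕ}
    (h1 : n ! ≤ c * (i * wt (shape Y))) (h2 : j * i ≤ 2 * 4 ^ r + 2 ^ r) :
    16 * j * n ! ≤ 33 * c * (wt (shape Y) * 4 ^ r) := by
  have h3 := bound_le hr
  calc 16 * j * n ! ≤ 16 * j * (c * (i * wt (shape Y))) := Nat.mul_le_mul_left _ h1
    _ = c * wt (shape Y) * (16 * (j * i)) := by ring
    _ ≤ c * wt (shape Y) * (16 * (2 * 4 ^ r + 2 ^ r)) :=
        Nat.mul_le_mul_left _ (Nat.mul_le_mul_left _ h2)
    _ ≤ c * wt (shape Y) * (33 * 4 ^ r) := Nat.mul_le_mul_left _ h3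
    _ = _ := by ring

/-- **the list** -/
theorem exc_of_index (halt : alternatingGroup (Fin n) ≤ Hb) (hsq : ∀ y ∈ Y, y * y = 1)
    (hr : 4 ≤ r) (hc : Nat.card Y = 2 ^ r) (hn : 10 ≤ n)
    (hidx : (Subgroup.normalizer (Y : Set (Perm (Fin n)))).relIndex Hb ≤ 2 * 4 ^ r + 2 ^ r) :
    ((n = 10 ∧ shape Y = (([1, 1, 1, 1, 1] : List ℕ) : Multiset ℕ) ∧ r = 5) ∨
      (n = 10 ∧ shape Y = (([2, 2, 1] : List ℕ) : Multiset ℕ) ∧ r = 5) ∨
      (n = 12 ∧ shape Y = (([2, 2, 2] : List ℕ) : Multiset ℕ) ∧ r = 6)) ∧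
    2 * 4 ^ r + 2 ^ r < 3 * (Subgroup.normalizer (Y : Set (Perm (Fin n)))).relIndex Hb := by
  set N := Subgroup.normalizer (Y : Set (Perm (Fin n))) with hNdef
  have hN : ∀ m ∈ N, ∀ a ∈ Y, m * a * m⁻¹ ∈ Y := fun m hm a ha =>
    (Subgroup.mem_normalizer_iff.1 hm a).1 ha
  have hwt : Nat.card N ≤ wt (shape Y) := card_N_le_wt hsq hN
  have hpts : pts (shape Y) = n := by rw [pts_shape hsq, Nat.card_eq_fintype_card, Fintype.card_fin]
  have hR : r ≤ (shape Y).sum := by
    have h := card_le_shape hsq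
    rw [hc] at h
    exact (Nat.pow_le_pow_iff_right (by norm_num)).1 h
  have h4R : ∀ k, r + k ≤ (shape Y).sum → wt (shape Y) * 4 ^ r * 4 ^ k ≤ psi (shape Y) := by
    intro k hk
    rw [psi, mul_assoc, ← pow_add]
    exact Nat.mul_le_mul_left _ (Nat.pow_le_pow_right (by norm_num) hk)
  have htwo : n ! ≤ 2 * (N.relIndex Hb * wt (shape Y)) :=
    (fact_le_two halt (by omega) N).trans
      (Nat.mul_le_mul_left _ (Nat.mul_le_mul_left _ hwt))
  have hone : (1 ∈ shape Y ∨ 2 ≤ (shape Y).count 0) → n ! ≤ 1 * (N.relIndex Hb * wt (shape Y)) := by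
    intro h
    obtain ⟨x, y, hxy, hcom⟩ := exists_swap_of_mem hsq h
    have hu : Equiv.swap x y ∈ N := by
      rw [hNdef, Subgroup.mem_normalizer_iff]
      have h1 : ∀ a ∈ Y, Equiv.swap x y * a * (Equiv.swap x y)⁻¹ = a := by
        intro a ha
        rw [← hcom a ha, mul_assoc, mul_inv_cancel, mul_one]
      intro a
      constructor
      · intro ha
        have := h1 a ha
        rw [this]; exact ha
      · intro ha
        have h2 := hcom _ ha
        have h3 : Equiv.swap x y * a * (Equiv.swap x y)⁻¹ = a := by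
          have h4 : Equiv.swap x y * (Equiv.swap x y * a * (Equiv.swap x y)⁻¹) =
              Equiv.swap x y * a := by
            rw [← h2]; group
          exact mul_left_cancel h4
        rw [h3] at ha; exact ha
    rw [one_mul]
    exact (fact_le_one halt N hu (Perm.sign_swap hxy)).trans (Nat.mul_le_mul_left _ hwt)
  have hmain : ∀ c j k, n ! ≤ c * (N.relIndex Hb * wt (shape Y)) →
      j * N.relIndex Hb ≤ 2 * 4 ^ r + 2 ^ r → r + k ≤ (shape Y).sum →
      16 * j * n ! * 4 ^ k ≤ 33 * c * psi (shape Y) := by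
    intro c j k h1 h2 h3
    have h5 := main_le (Y := Y) hr h1 h2
    calc 16 * j * n ! * 4 ^ k ≤ 33 * c * (wt (shape Y) * 4 ^ r) * 4 ^ k := Nat.mul_le_mul_right _ h5
      _ = 33 * c * (wt (shape Y) * 4 ^ r * 4 ^ k) := by ring
      _ ≤ _ := Nat.mul_le_mul_left _ (h4R k h3)
  rcases trichotomy (shape Y) (hr.trans hR) with h | ⟨h, h'⟩ | ⟨l, hl, h⟩ | h
  · exfalso
    have h1 := hmain 2 1 0 htwo (by rw [one_mul]; exact hidx) hR
    rw [DOne, hpts] at h
    rw [pow_zero] at h1
    omega
  · exfalso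
    have h1 := hmain 1 1 0 (hone h') (by rw [one_mul]; exact hidx) hR
    rw [hpts] at h
    rw [pow_zero] at h1
    omega
  · have hp : ptsL l = n := by rw [← pts_coe, ← h, hpts]
    have hps : psi (shape Y) = psiL l := by rw [h, psi_coe]
    have hsum : (shape Y).sum = l.sum := by rw [h, Multiset.sum_coe]
    simp only [exc, List.mem_cons, List.not_mem_nil, or_false] at hl
    rcases hl with rfl | rfl | rfl | rfl | rfl | rfl
    · exfalso
      have : ptsL [1, 1, 1, 1] = 8 := by decide
      omega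
    · exfalso
      have : ptsL [2, 1, 1] = 8 := by decide
      omega
    · exfalso
      have : ptsL [2, 2] = 8 := by decide
      omega
    · have hn' : n = 10 := by
        have : ptsL [1, 1, 1, 1, 1] = 10 := by decide
        omega
      have hs5 : ([1, 1, 1, 1, 1] : List ℕ).sum = 5 := by decide
      rw [hs5] at hsum
      have hodd := hone (Or.inl (by rw [h]; decide))
      subst hn'
      have hval : 33 * psiL [1, 1, 1, 1, 1] < 48 * 10 ! := by decide +kernel
      have hr5 : r = 5 := by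
        by_contra hne
        have h1 := hmain 1 1 1 hodd (by rw [one_mul]; exact hidx) (by omega)
        rw [hps] at h1
        omega
      refine ⟨Or.inl ⟨rfl, h, hr5⟩, ?_⟩
      by_contra hcon
      push Not at hcon
      have h1 := hmain 1 3 0 hodd hcon hR
      rw [hps] at h1
      omega
    · have hn' : n = 10 := by
        have : ptsL [2, 2, 1] = 10 := by decide
        omega
      have hs5 : ([2, 2, 1] : List ℕ).sum = 5 := by decide
      rw [hs5] at hsum
      have hodd := hone (Or.inl (by rw [h]; decide))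
      subst hn'
      have hval : 33 * psiL [2, 2, 1] < 48 * 10 ! := by decide +kernel
      have hr5 : r = 5 := by
        by_contra hne
        have h1 := hmain 1 1 1 hodd (by rw [one_mul]; exact hidx) (by omega)
        rw [hps] at h1
        omega
      refine ⟨Or.inr (Or.inl ⟨rfl, h, hr5⟩), ?_⟩
      by_contra hcon
      push Not at hcon
      have h1 := hmain 1 3 0 hodd hcon hR
      rw [hps] at h1
      omega
    · have hn' : n = 12 := by
        have : ptsL [2, 2, 2] = 12 := by decide
        omega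
      have hs5 : ([2, 2, 2] : List ℕ).sum = 6 := by decide
      rw [hs5] at hsum
      subst hn'
      have hval : 66 * psiL [2, 2, 2] < 48 * 12 ! := by decide +kernel
      have hr5 : r = 6 := by
        by_contra hne
        have h1 := hmain 2 1 1 htwo (by rw [one_mul]; exact hidx) (by omega)
        rw [hps] at h1
        omega
      refine ⟨Or.inr (Or.inr ⟨rfl, h, hr5⟩), ?_⟩
      by_contra hcon
      push Not at hcon
      have h1 := hmain 2 3 0 htwo hcon hR
      rw [hps] at h1
      omega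
  · exfalso
    have : ptsL [2, 2, 0] = 9 := by decide
    rw [h, pts_coe] at hpts
    omega

end idx

end Cfsg.Agent.Omega.AltRow.Count
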