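import Cfsg.Agent.Omega.AltRow.Count

/-!
# The row `A_n`, `n ≥ 10` (helper77; end by helper974)

`dead_of_phi`: a configuration `Cfg` with `φ : H →* Sym(n)`, `n ≥ 10`, odd kernel, `A_n ≤ φ(H)` does not exist.
-/

set_option autoImplicit false

namespace Cfsg.Agent.Omega.AltRow.Dead

open Cfsg.Agent.Omega.EH3 PermBound NumBound Shape Equiv Cfsg.Agent.Omega.AltRow.Count
open Cfsg.Agent.Omega.AltRow

variable {H V : Type*} [Group H] [AddCommGroup V] [Module (ZMod 2) V]
  {ρ : H →* (V ≃ₗ[ZMod 2] V)} {b : LinearMap.BilinForm (ZMod 2) V} {q : V → ZMod 2}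
  {a : V} {D : Submodule (ZMod 2) V} {X : Subgroup H} {w : ℕ}

/-- a normal subgroup fixing `a` is trivial -/
theorem eq_bot_of_normal (C : Cfg ρ b q a D X w) {K : Subgroup H} (hK : K.Normal)
    (hKa : ∀ k ∈ K, ρ k a = a) : K = ⊥ := by
  let W : Submodule (ZMod 2) V :=
    { carrier := {v | ∀ k ∈ K, ρ k v = v}
      zero_mem' := fun k _ => map_zero _
      add_mem' := by
        intro u v hu hv k hk
        rw [map_add, hu k hk, hv k hk]
      smul_mem' := by
        intro c v hv k hk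
        rw [map_smul, hv k hk] }
  have h1 : ∀ h, ∀ v ∈ W, ρ h v ∈ W := by
    intro h v hv k hk
    have h2 := hv (h⁻¹ * k * h) (by
      have := hK.conj_mem k hk h⁻¹
      rwa [inv_inv] at this)
    rw [C.ρ_mul, C.ρ_mul] at h2
    rw [← C.ρ_apply_inv h (ρ k (ρ h v)), h2]
  rcases C.irr W h1 with h2 | h2
  · exfalso
    apply C.a_ne
    have : a ∈ W := hKa
    rw [h2] at this
    exact (Submodule.mem_bot _).1 this
  · rw [eq_bot_iff]
    intro k hk
    rw [Subgroup.mem_bot]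
    apply C.ext
    intro v
    rw [C.ρ_one]
    have : v ∈ W := by rw [h2]; trivial
    exact this k hk

variable {n : ℕ} {φ : H →* Perm (Fin n)}

theorem X_inf_ker (C : Cfg ρ b q a D X w) (hodd : Odd (Nat.card φ.ker)) : X ⊓ φ.ker = ⊥ := by
  have := C.finite_H
  rw [eq_bot_iff]
  rintro x ⟨hx, hk⟩
  rw [Subgroup.mem_bot]
  have h1 := C.X_sq x hx
  have h2 : orderOf (⟨x, hk⟩ : φ.ker) ∣ Nat.card φ.ker := orderOf_dvd_natCard _
  have h3 : orderOf (⟨x, hk⟩ : φ.ker) ∣ 2 := by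
    rw [orderOf_dvd_iff_pow_eq_one]
    apply Subtype.ext
    show x ^ 2 = 1
    rw [pow_two]; exact h1
  rcases (Nat.dvd_prime Nat.prime_two).1 h3 with h4 | h4
  · exact congrArg Subtype.val (orderOf_eq_one_iff.1 h4)
  · exfalso
    rw [h4] at h2
    exact (Nat.not_even_iff_odd.2 hodd) (even_iff_two_dvd.2 h2)

/-- `|X φ| = |X|` -/
theorem card_map (C : Cfg ρ b q a D X w) (hodd : Odd (Nat.card φ.ker)) :
    Nat.card (X.map φ) = 2 ^ (w - 1) := by
  rw [← C.card_X]
  refine (Nat.card_congr (Equiv.ofBijective (fun x : X => (⟨φ x, ⟨x, x.2, rfl⟩⟩ : X.map φ)) ?_)).symm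
  constructor
  · intro x y h
    have h1 : φ x = φ y := congrArg Subtype.val h
    have h3 : (x : H)⁻¹ * y ∈ φ.ker := by
      rw [MonoidHom.mem_ker, map_mul, map_inv, h1, inv_mul_cancel]
    have h2 : (x : H)⁻¹ * y ∈ X ⊓ φ.ker := ⟨X.mul_mem (X.inv_mem x.2) y.2, h3⟩
    rw [X_inf_ker C hodd, Subgroup.mem_bot] at h2
    exact Subtype.ext (inv_mul_eq_one.1 h2)
  · rintro ⟨_, x, hx, rfl⟩
    exact ⟨⟨x, hx⟩, rfl⟩

/-- `M = φ⁻¹(N(Y))` -/
theorem norm_le_comap (φ : H →* Perm (Fin n)) (X : Subgroup H) :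
    Subgroup.normalizer (X : Set H) ≤
      (Subgroup.normalizer ((X.map φ : Subgroup (Perm (Fin n))) : Set (Perm (Fin n)))).comap φ := by
  intro h hh
  rw [Subgroup.mem_comap, Subgroup.mem_normalizer_iff]
  intro y
  constructor
  · rintro ⟨x, hx, rfl⟩
    exact ⟨h * x * h⁻¹, (Subgroup.mem_normalizer_iff.1 hh x).1 hx, by
      rw [map_mul, map_mul, map_inv]⟩
  · rintro ⟨x, hx, hxe⟩
    refine ⟨h⁻¹ * x * h, ?_, ?_⟩
    · have := (Subgroup.mem_normalizer_iff.1 (Subgroup.inv_mem _ hh) x).1 hx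
      rwa [inv_inv] at this
    · rw [map_mul, map_mul, map_inv, hxe]
      group

theorem index_comap (φ : H →* Perm (Fin n)) (N : Subgroup (Perm (Fin n))) :
    (N.comap φ).index = N.relIndex φ.range := by
  rw [Subgroup.index_comap]

theorem relIndex_le (C : Cfg ρ b q a D X w) :
    (Subgroup.normalizer ((X.map φ : Subgroup (Perm (Fin n))) : Set (Perm (Fin n)))).relIndex φ.range ≤
      2 * 4 ^ (w - 1) + 2 ^ (w - 1) := by
  have := C.finite_H
  have h1 := C.index_norm_le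
  have h2 := C.five
  have h3 : 2 ^ (2 * w - 1) = 2 * 4 ^ (w - 1) := by
    have : (4 : ℕ) ^ (w - 1) = 2 ^ (2 * (w - 1)) := by rw [pow_mul]; norm_num
    rw [this, ← pow_succ']
    congr 1; omega
  rw [h3] at h1
  rw [← index_comap]
  refine le_trans ?_ (h1.trans (Nat.sub_le _ _))
  exact Nat.le_of_dvd (Nat.pos_of_ne_zero Subgroup.index_ne_zero_of_finite)
    (Subgroup.index_dvd_of_le (norm_le_comap φ X))

theorem three_relIndex_le (C : Cfg ρ b q a D X w) (hodd : Odd (Nat.card φ.ker)) (hne : φ.ker ≠ ⊥) :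
    3 * (Subgroup.normalizer ((X.map φ : Subgroup (Perm (Fin n))) : Set (Perm (Fin n)))).relIndex φ.range ≤
      2 * 4 ^ (w - 1) + 2 ^ (w - 1) := by
  have := C.finite_H
  have h1 := C.index_norm_le
  have h2 := C.five
  have h3 : 2 ^ (2 * w - 1) = 2 * 4 ^ (w - 1) := by
    have : (4 : ℕ) ^ (w - 1) = 2 ^ (2 * (w - 1)) := by rw [pow_mul]; norm_num
    rw [this, ← pow_succ']
    congr 1; omega
  rw [h3] at h1
  rw [← index_comap]
  refine le_trans ?_ (h1.trans (Nat.sub_le _ _))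
  set N := Subgroup.normalizer (X : Set H) with hN
  set M := (Subgroup.normalizer ((X.map φ : Subgroup (Perm (Fin n))) : Set (Perm (Fin n)))).comap φ
  have h4 : N.relIndex M * M.index = N.index := Subgroup.relIndex_mul_index (norm_le_comap φ X)
  rw [← h4]
  refine Nat.mul_le_mul_right _ ?_
  have h5 : φ.ker ≤ M := by
    intro k hk
    rw [Subgroup.mem_comap, MonoidHom.mem_ker.1 hk]
    exact Subgroup.one_mem _
  have h6 : N.relIndex φ.ker ≤ N.relIndex M :=
    Subgroup.relIndex_le_of_le_right h5 (by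
      rw [Subgroup.relIndex]; exact Subgroup.index_ne_zero_of_finite)
  have h7 : N.relIndex φ.ker ∣ Nat.card φ.ker := Subgroup.relIndex_dvd_card _ _
  have h8 : N.relIndex φ.ker ≠ 1 := by
    intro h
    rw [Subgroup.relIndex_eq_one] at h
    apply hne
    apply eq_bot_of_normal C inferInstance
    intro k hk
    have := h hk
    rw [hN, ← C.stab_eq] at this
    exact this
  have h9 : Odd (N.relIndex φ.ker) := Odd.of_dvd_nat hodd h7
  obtain ⟨k, hk⟩ := h9
  omega

theorem orbs_eq {Y : Subgroup (Perm (Fin n))} (hY : ∀ y ∈ Y, y * y = 1) (k : ℕ) :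
    orbs Y (2 ^ k) = (shape Y).count k := (count_shape hY k).symm

/-- **`A_n`, `n ≥ 10`, is dead** -/
theorem dead_of_phi (C : Cfg ρ b q a D X w) (hn : 10 ≤ n) (hodd : Odd (Nat.card φ.ker))
    (halt : alternatingGroup (Fin n) ≤ φ.range) : False := by
  have hfH := C.finite_H
  have hfV := C.finite_V
  have h6 := C.six
  set Y : Subgroup (Perm (Fin n)) := X.map φ with hYdef
  have hsq : ∀ y ∈ Y, y * y = 1 := by
    rintro _ ⟨x, hx, rfl⟩
    rw [← map_mul, C.X_sq x hx, map_one]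
  have hcard : Nat.card Y = 2 ^ (w - 1) := card_map C hodd
  obtain ⟨h1, h2⟩ := exc_of_index halt hsq (by omega) hcard hn (relIndex_le C)
  -- `φ` is injective
  have hker : φ.ker = ⊥ := by
    by_contra hne
    have h3 := three_relIndex_le C hodd hne
    rw [← hYdef] at h3
    omega
  have hinj : Function.Injective φ := (MonoidHom.ker_eq_bot_iff φ).1 hker
  let e := MonoidHom.ofInjective C.inj
  let ψ : ρ.range →* Perm (Fin n) := φ.comp e.symm.toMonoidHom
  have hψ : ∀ h : H, ψ (e h) = φ h := fun h => by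
    show φ (e.symm (e h)) = φ h
    rw [e.symm_apply_apply]
  have hψr : ψ.range = φ.range := by
    ext y
    constructor
    · rintro ⟨f, rfl⟩
      exact ⟨e.symm f, rfl⟩
    · rintro ⟨h, rfl⟩
      exact ⟨e h, hψ h⟩
  refine dead_of_orbs C.sys (φ := ψ) ?_ (by rw [hψr]; exact halt) (Y := Y) ?_ ?_ ?_
  · exact hinj.comp e.symm.injective
  · rw [hψr]
    rintro _ ⟨x, -, rfl⟩
    exact ⟨x, rfl⟩
  · intro f
    obtain ⟨h, rfl⟩ := e.surjective f
    rw [hψ]
    constructor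
    · rintro ⟨x, hx, hxe⟩
      have : x = h := C.inj hxe
      exact ⟨x, hx, by rw [this]⟩
    · rintro ⟨x, hx, hxe⟩
      exact ⟨x, hx, by rw [hinj hxe]; rfl⟩
  · rcases h1 with ⟨hn1, hs, hr⟩ | ⟨hn1, hs, hr⟩ | ⟨hn1, hs, hr⟩
    · right; left
      refine ⟨hn1, ?_, ?_, ?_⟩
      · rw [show 2 = 2 ^ 1 from rfl, orbs_eq hsq, hs]; decide
      · rw [show 1 = 2 ^ 0 from rfl, orbs_eq hsq, hs]; decide
      · rw [hcard, hr]; norm_num
    · right; right; left
      refine ⟨hn1, ?_, ?_, ?_⟩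
      · rw [show 4 = 2 ^ 2 from rfl, orbs_eq hsq, hs]; decide
      · rw [show 2 = 2 ^ 1 from rfl, orbs_eq hsq, hs]; decide
      · rw [hcard, hr]; norm_num
    · right; right; right
      refine ⟨hn1, ?_, ?_, ?_⟩
      · rw [show 4 = 2 ^ 2 from rfl, orbs_eq hsq, hs]; decide
      · rw [show 1 = 2 ^ 0 from rfl, orbs_eq hsq, hs]; decide
      · rw [hcard, hr]; norm_num

end Cfsg.Agent.Omega.AltRow.Dead
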