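import Cfsg.Agent.Omega.W5.NearTI

/-!
# The row `A_n`, last step (helper974): (N3) kills the types `4²·1`, `2⁵`, `4²·2`, `4³`

`S : Sys b H X D e`, `φ : H → Perm (Fin n)` injective with image containing `A_n`, `X = φ⁻¹(Y)`.

* `Sys.generate` (N5): if `b1 ≠ b2` are nontrivial elements of `X`, then the `x ∈ X` lying in a conjugate `X^h ∋ b1, b2`
  with `h e ≠ e` are contained in a proper subgroup of `X` (if such an `h` exists): they centralise `h e`.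
* `Sys.third`: the third point on a line.
-/

set_option autoImplicit false

namespace Cfsg.Agent.Omega.AltRow

open Cfsg.Agent.Omega.W5.NearTI

variable {V : Type*} [AddCommGroup V] [Module (ZMod 2) V]
  {b : LinearMap.BilinForm (ZMod 2) V} {H X : Subgroup (V ≃ₗ[ZMod 2] V)}
  {D : Submodule (ZMod 2) V} {e : V}

theorem inv_e {h : V ≃ₗ[ZMod 2] V} : h⁻¹ (h e) = e := inv_apply h e

/-- two members `X^h`, `X^k` containing `b1, b2`, and `x ∈ X ∩ X^k`, `k e ≠ e`: `x` fixes `h e` -/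
theorem fix_of_mem [Finite V] (S : Sys b H X D e) {b1 b2 : V ≃ₗ[ZMod 2] V}
    (h1 : b1 ∈ X) (h2 : b2 ∈ X) (n1 : b1 ≠ 1) (n2 : b2 ≠ 1) (n12 : b1 ≠ b2)
    {h k x : V ≃ₗ[ZMod 2] V} (hh1 : h⁻¹ * b1 * h ∈ X) (hh2 : h⁻¹ * b2 * h ∈ X)
    (hk1 : k⁻¹ * b1 * k ∈ X) (hk2 : k⁻¹ * b2 * k ∈ X) (hke : k e ≠ e)
    (hx : x ∈ X) (hxk : k⁻¹ * x * k ∈ X) : x (h e) = h e := by
  have hB : ∀ {h : V ≃ₗ[ZMod 2] V}, h⁻¹ * b1 * h ∈ X → h⁻¹ * b2 * h ∈ X →
      ∀ f ∈ ({b1, b2} : Set (V ≃ₗ[ZMod 2] V)), h⁻¹ * f * h ∈ X := by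
    rintro h h3 h4 f (rfl | rfl)
    · exact h3
    · exact h4
  have hm1 : b1 ∈ ({b1, b2} : Set (V ≃ₗ[ZMod 2] V)) := by simp
  have hm2 : b2 ∈ ({b1, b2} : Set (V ≃ₗ[ZMod 2] V)) := by simp
  have e1 : ∀ f : V ≃ₗ[ZMod 2] V, (1 : V ≃ₗ[ZMod 2] V)⁻¹ * f * 1 = f := fun f => by group
  -- `h e ∈ D`
  have hD1 : h e ∈ D := by
    have := S.mem_D_of_pts hm1 hm2 n1 n2 n12 (h := 1) (k := h)
      (hB (by rw [e1]; exact h1) (by rw [e1]; exact h2)) (hB hh1 hh2)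
    exact this
  have hD2 : k⁻¹ (h e) ∈ D := S.mem_D_of_pts hm1 hm2 n1 n2 n12 (hB hk1 hk2) (hB hh1 hh2)
  rcases S.X_D x hx _ hD1 with h3 | h3
  · exact h3
  · rcases S.X_D _ hxk _ hD2 with h4 | h4
    · have h5 : k⁻¹ (x (h e)) = k⁻¹ (h e) := by
        have : (k⁻¹ * x * k) (k⁻¹ (h e)) = k⁻¹ (x (h e)) := by
          show k⁻¹ (x (k (k⁻¹ (h e)))) = _
          rw [apply_inv]
        rw [← this, h4]
      exact (k⁻¹).injective h5
    · exfalso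
      apply hke
      have h5 : k⁻¹ (x (h e)) = k⁻¹ (h e) + e := by
        have : (k⁻¹ * x * k) (k⁻¹ (h e)) = k⁻¹ (x (h e)) := by
          show k⁻¹ (x (k (k⁻¹ (h e)))) = _
          rw [apply_inv]
        rw [← this, h4]
      have h6 : x (h e) = h e + k e := by
        have := congrArg k h5
        rw [apply_inv, map_add, apply_inv] at this
        exact this
      rw [h3] at h6
      exact (add_left_cancel h6).symm

/-- (N5): `X` is not generated by the elements which lie in another conjugate of `X` containing `b1, b2`. -/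
theorem generate [Finite V] (S : Sys b H X D e) {b1 b2 : V ≃ₗ[ZMod 2] V}
    (h1 : b1 ∈ X) (h2 : b2 ∈ X) (n1 : b1 ≠ 1) (n2 : b2 ≠ 1) (n12 : b1 ≠ b2)
    {h : V ≃ₗ[ZMod 2] V} (hh1 : h⁻¹ * b1 * h ∈ X) (hh2 : h⁻¹ * b2 * h ∈ X)
    (hhe : h e ≠ e)
    (gen : X ≤ Subgroup.closure {x | x ∈ X ∧ ∃ k : V ≃ₗ[ZMod 2] V, k⁻¹ * b1 * k ∈ X ∧
      k⁻¹ * b2 * k ∈ X ∧ k e ≠ e ∧ k⁻¹ * x * k ∈ X}) : False := by
  let F : Subgroup (V ≃ₗ[ZMod 2] V) :=
    { carrier := {x | x (h e) = h e}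
      one_mem' := rfl
      mul_mem' := by
        intro x y hx hy
        show x (y (h e)) = h e
        have hx' : x (h e) = h e := hx
        have hy' : y (h e) = h e := hy
        rw [hy', hx']
      inv_mem' := by
        intro x hx
        have hx' : x (h e) = h e := hx
        show x⁻¹ (h e) = h e
        nth_rewrite 1 [← hx']
        exact inv_apply x _ }
  have hXF : X ≤ F := by
    refine gen.trans ((Subgroup.closure_le F).2 ?_)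
    rintro x ⟨hx, k, hk1, hk2, hke, hxk⟩
    exact fix_of_mem S h1 h2 n1 n2 n12 hh1 hh2 hk1 hk2 hke hx hxk
  have e1 : ∀ f : V ≃ₗ[ZMod 2] V, (1 : V ≃ₗ[ZMod 2] V)⁻¹ * f * 1 = f := fun f => by group
  have hD1 : h e ∈ D := by
    have := S.mem_D_of_pts (B := {b1, b2}) (f := b1) (g := b2) (by simp) (by simp) n1 n2 n12
      (h := 1) (k := h) (by
        rintro f (rfl | rfl)
        · rw [e1]; exact h1
        · rw [e1]; exact h2) (by
        rintro f (rfl | rfl)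
        · exact hh1
        · exact hh2)
    exact this
  obtain ⟨x, hx, hx'⟩ := S.exists_move (h := 1) (w := h e) hD1 (by
    intro h3
    apply S.ne
    have := inv_apply h e
    rw [h3, map_zero] at this
    exact this.symm) hhe
  have h3 : x (h e) = h e + e := by
    have e2 : (1 * x * (1 : V ≃ₗ[ZMod 2] V)⁻¹) = x := by group
    rw [e2] at hx'
    exact hx'
  have h4 : x (h e) = h e := hXF hx
  rw [h4] at h3
  exact S.ne (left_eq_add.1 h3)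

/-! ### transfer to permutations -/

section transfer

variable {n : ℕ} {φ : H →* Equiv.Perm (Fin n)} {Y : Subgroup (Equiv.Perm (Fin n))}

/-- `h⁻¹ f h ∈ X` in terms of permutations -/
theorem conj_mem_iff (hY : ∀ f : H, (f : V ≃ₗ[ZMod 2] V) ∈ X ↔ φ f ∈ Y) (h f : H) :
    ((h : V ≃ₗ[ZMod 2] V)⁻¹ * f * h ∈ X) ↔ (φ h)⁻¹ * φ f * φ h ∈ Y := by
  have := hY (h⁻¹ * f * h)
  rw [map_mul, map_mul, map_inv] at this
  exact this

/-- a nonnormalising element moves `e` -/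
theorem ne_of_not_mem (S : Sys b H X D e) (hY : ∀ f : H, (f : V ≃ₗ[ZMod 2] V) ∈ X ↔ φ f ∈ Y)
    {h : H} {f : H} (hf : (f : V ≃ₗ[ZMod 2] V) ∈ X) (hn : (φ h)⁻¹ * φ f * φ h ∉ Y) :
    (h : V ≃ₗ[ZMod 2] V) e ≠ e := by
  intro he
  apply hn
  rw [← conj_mem_iff hY]
  have h1 : (h : V ≃ₗ[ZMod 2] V)⁻¹ e = e := by
    nth_rewrite 1 [← he]
    exact inv_apply _ _
  have := S.normal _ (H.inv_mem h.2) h1 _ hf
  rwa [inv_inv] at this

theorem kill_of_gens [Finite V] (S : Sys b H X D e) (hinj : Function.Injective φ)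
    (halt : alternatingGroup (Fin n) ≤ φ.range) (hYr : Y ≤ φ.range)
    (hY : ∀ f : H, (f : V ≃ₗ[ZMod 2] V) ∈ X ↔ φ f ∈ Y) {b1 b2 : Equiv.Perm (Fin n)}
    (h1 : b1 ∈ Y) (h2 : b2 ∈ Y) (n1 : b1 ≠ 1) (n2 : b2 ≠ 1) (n12 : b1 ≠ b2)
    (hg : ∃ g ∈ alternatingGroup (Fin n), g⁻¹ * b1 * g ∈ Y ∧ g⁻¹ * b2 * g ∈ Y ∧
      ∃ y ∈ Y, g⁻¹ * y * g ∉ Y)
    (gen : Y ≤ Subgroup.closure {x | x ∈ Y ∧ ∃ g ∈ alternatingGroup (Fin n), g⁻¹ * b1 * g ∈ Y ∧
      g⁻¹ * b2 * g ∈ Y ∧ g⁻¹ * x * g ∈ Y ∧ ∃ y ∈ Y, g⁻¹ * y * g ∉ Y}) : False := by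
  obtain ⟨g, hgA, hg1, hg2, y, hy, hgy⟩ := hg
  obtain ⟨c1, rfl⟩ := hYr h1
  obtain ⟨c2, rfl⟩ := hYr h2
  obtain ⟨k, rfl⟩ := halt hgA
  obtain ⟨f, rfl⟩ := hYr hy
  refine generate S (b1 := (c1 : V ≃ₗ[ZMod 2] V)) (b2 := c2) (h := k) ((hY _).2 h1) ((hY _).2 h2)
    ?_ ?_ ?_ ((conj_mem_iff hY _ _).2 hg1) ((conj_mem_iff hY _ _).2 hg2)
    (ne_of_not_mem S hY ((hY _).2 hy) hgy) ?_
  · intro h3
    apply n1
    have : c1 = 1 := Subtype.ext h3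
    rw [this, map_one]
  · intro h3
    apply n2
    have : c2 = 1 := Subtype.ext h3
    rw [this, map_one]
  · intro h3
    apply n12
    have : c1 = c2 := Subtype.ext h3
    rw [this]
  · intro x hx
    set P : Set (V ≃ₗ[ZMod 2] V) := {x | x ∈ X ∧ ∃ k : V ≃ₗ[ZMod 2] V, k⁻¹ * (c1 : V ≃ₗ[ZMod 2] V) * k ∈ X ∧
      k⁻¹ * (c2 : V ≃ₗ[ZMod 2] V) * k ∈ X ∧ k e ≠ e ∧ k⁻¹ * x * k ∈ X} with hP
    have h3 : Y ≤ ((Subgroup.closure P).subgroupOf H).map φ := by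
      refine gen.trans ((Subgroup.closure_le _).2 ?_)
      rintro x ⟨hx, g', hgA', hg1', hg2', hgx', y', hy', hgy'⟩
      obtain ⟨x, rfl⟩ := hYr hx
      obtain ⟨k', rfl⟩ := halt hgA'
      obtain ⟨f', rfl⟩ := hYr hy'
      refine ⟨x, Subgroup.mem_subgroupOf.2 (Subgroup.subset_closure ⟨(hY _).2 hx, k', ?_, ?_, ?_, ?_⟩), rfl⟩
      · exact (conj_mem_iff hY _ _).2 hg1'
      · exact (conj_mem_iff hY _ _).2 hg2'
      · exact ne_of_not_mem S hY ((hY _).2 hy') hgy'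
      · exact (conj_mem_iff hY _ _).2 hgx'
    obtain ⟨x', hx', hxx⟩ := h3 ((hY ⟨x, S.X_le hx⟩).1 hx)
    have h4 := hinj hxx
    have h5 := Subgroup.mem_subgroupOf.1 hx'
    rw [h4] at h5
    exact h5

end transfer

end Cfsg.Agent.Omega.AltRow
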