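import Cfsg.Agent.Omega.AltRow.Types

/-!
# The row `A_n`, last step (helper974): the types `2⁵`, `4²·2` (`n = 10`) and `4³` (`n = 12`)
-/

set_option autoImplicit false
set_option maxRecDepth 100000

namespace Cfsg.Agent.Omega.AltRow

open Equiv Cfsg.Agent.Omega.W5.NearTI

variable {V : Type*} [AddCommGroup V] [Module (ZMod 2) V]
  {b : LinearMap.BilinForm (ZMod 2) V} {H X : Subgroup (V ≃ₗ[ZMod 2] V)}
  {D : Submodule (ZMod 2) V} {e : V}

/-- blocks of size two -/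
def blkTwo : Fin 10 → ℕ := fun i => (i : ℕ) / 2

/-- blocks `4, 4, 2` -/
def blkTen : Fin 10 → ℕ := fun i => (i : ℕ) / 4

/-- blocks `4, 4, 4` -/
def blkTwelve : Fin 12 → ℕ := fun i => (i : ℕ) / 4

/-- blocks `4, 4, 1` -/
def blkNine : Fin 9 → ℕ := fun i => (i : ℕ) / 4

theorem dead_two [Finite V] (S : Sys b H X D e) {φ : H →* Perm (Fin 10)}
    (hinj : Function.Injective φ)
    (halt : alternatingGroup (Fin 10) ≤ φ.range) {Y : Subgroup (Perm (Fin 10))} (hYr : Y ≤ φ.range)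
    (hY : ∀ f : H, (f : V ≃ₗ[ZMod 2] V) ∈ X ↔ φ f ∈ Y) (hP : ∀ y, y ∈ Y ↔ Pr blkTwo y) : False := by
  have hA : ∀ {g : Perm (Fin 10)}, Perm.sign g = 1 → g ∈ alternatingGroup (Fin 10) := fun h =>
    Perm.mem_alternatingGroup.2 h
  refine kill_of_gens S hinj halt hYr hY (b1 := swap 0 1) (b2 := swap 2 3)
    ((hP _).2 (by decide +kernel)) ((hP _).2 (by decide +kernel)) (by decide +kernel)
    (by decide +kernel) (by decide +kernel)
    ⟨swap 7 8 * swap 4 5, hA (by decide +kernel), (hP _).2 (by decide +kernel),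
      (hP _).2 (by decide +kernel), swap 6 7, (hP _).2 (by decide +kernel),
      fun h => absurd ((hP _).1 h) (by decide +kernel)⟩ ?_
  set K := Subgroup.closure {x | x ∈ Y ∧ ∃ g ∈ alternatingGroup (Fin 10), g⁻¹ * swap 0 1 * g ∈ Y ∧
      g⁻¹ * swap 2 3 * g ∈ Y ∧ g⁻¹ * x * g ∈ Y ∧ ∃ y ∈ Y, g⁻¹ * y * g ∉ Y} with hK
  have hK1 : ∀ (x g z : Perm (Fin 10)), Pr blkTwo x → Perm.sign g = 1 → Pr blkTwo (g⁻¹ * swap 0 1 * g) →
      Pr blkTwo (g⁻¹ * swap 2 3 * g) → Pr blkTwo (g⁻¹ * x * g) → Pr blkTwo z →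
      ¬ Pr blkTwo (g⁻¹ * z * g) → x ∈ K := fun x g z h1 h2 h3 h4 h5 h6 h7 =>
    Subgroup.subset_closure ⟨(hP _).2 h1, g, hA h2, (hP _).2 h3, (hP _).2 h4, (hP _).2 h5, z,
      (hP _).2 h6, fun h => h7 ((hP _).1 h)⟩
  have t0 : swap 0 1 ∈ K := hK1 _ (swap 7 8 * swap 4 5) (swap 6 7) (by decide +kernel)
    (by decide +kernel) (by decide +kernel) (by decide +kernel) (by decide +kernel)
    (by decide +kernel) (by decide +kernel)
  have t1 : swap 2 3 ∈ K := hK1 _ (swap 7 8 * swap 4 5) (swap 6 7) (by decide +kernel)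
    (by decide +kernel) (by decide +kernel) (by decide +kernel) (by decide +kernel)
    (by decide +kernel) (by decide +kernel)
  have t2 : swap 4 5 ∈ K := hK1 _ (swap 7 8 * swap 4 5) (swap 6 7) (by decide +kernel)
    (by decide +kernel) (by decide +kernel) (by decide +kernel) (by decide +kernel)
    (by decide +kernel) (by decide +kernel)
  have t3 : swap 6 7 ∈ K := hK1 _ (swap 5 8 * swap 6 7) (swap 4 5) (by decide +kernel)
    (by decide +kernel) (by decide +kernel) (by decide +kernel) (by decide +kernel)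
    (by decide +kernel) (by decide +kernel)
  have t4 : swap 8 9 ∈ K := hK1 _ (swap 5 6 * swap 8 9) (swap 4 5) (by decide +kernel)
    (by decide +kernel) (by decide +kernel) (by decide +kernel) (by decide +kernel)
    (by decide +kernel) (by decide +kernel)
  let v : Fin 10 → Perm (Fin 10) :=
    ![1, swap 0 1, 1, swap 2 3, 1, swap 4 5, 1, swap 6 7, 1, swap 8 9]
  have hv : ∀ c, v c ∈ K := by
    intro c
    fin_cases c
    · exact K.one_mem
    · exact t0
    · exact K.one_mem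
    · exact t1
    · exact K.one_mem
    · exact t2
    · exact K.one_mem
    · exact t3
    · exact K.one_mem
    · exact t4
  have hvY : ∀ c, v c ∈ Y := fun c => (hP _).2 (by revert c; decide +kernel)
  intro y hy
  have h1 := (hP y).1 hy
  have key : ∀ c0 c2 c4 c6 c8 : Fin 10, blkTwo c0 = blkTwo 0 → blkTwo c2 = blkTwo 2 →
      blkTwo c4 = blkTwo 4 → blkTwo c6 = blkTwo 6 → blkTwo c8 = blkTwo 8 →
      (v c0 * v c2 * v c4 * v c6 * v c8) 0 = c0 ∧ (v c0 * v c2 * v c4 * v c6 * v c8) 2 = c2 ∧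
      (v c0 * v c2 * v c4 * v c6 * v c8) 4 = c4 ∧ (v c0 * v c2 * v c4 * v c6 * v c8) 6 = c6 ∧
      (v c0 * v c2 * v c4 * v c6 * v c8) 8 = c8 := by decide +kernel
  obtain ⟨k0, k2, k4, k6, k8⟩ := key (y 0) (y 2) (y 4) (y 6) (y 8) (h1.2.1 0) (h1.2.1 2) (h1.2.1 4)
    (h1.2.1 6) (h1.2.1 8)
  have h2 : y = v (y 0) * v (y 2) * v (y 4) * v (y 6) * v (y 8) := by
    refine eq_of_base (fun y hy => (hP y).1 hy) hy
      (Y.mul_mem (Y.mul_mem (Y.mul_mem (Y.mul_mem (hvY _) (hvY _)) (hvY _)) (hvY _)) (hvY _)) ?_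
    intro i
    fin_cases i
    · exact ⟨0, rfl, k0.symm⟩
    · exact ⟨0, rfl, k0.symm⟩
    · exact ⟨2, rfl, k2.symm⟩
    · exact ⟨2, rfl, k2.symm⟩
    · exact ⟨4, rfl, k4.symm⟩
    · exact ⟨4, rfl, k4.symm⟩
    · exact ⟨6, rfl, k6.symm⟩
    · exact ⟨6, rfl, k6.symm⟩
    · exact ⟨8, rfl, k8.symm⟩
    · exact ⟨8, rfl, k8.symm⟩
  rw [h2]
  exact K.mul_mem (K.mul_mem (K.mul_mem (K.mul_mem (hv _) (hv _)) (hv _)) (hv _)) (hv _)

theorem dead_ten [Finite V] (S : Sys b H X D e) {φ : H →* Perm (Fin 10)}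
    (hinj : Function.Injective φ)
    (halt : alternatingGroup (Fin 10) ≤ φ.range) {Y : Subgroup (Perm (Fin 10))} (hYr : Y ≤ φ.range)
    (hY : ∀ f : H, (f : V ≃ₗ[ZMod 2] V) ∈ X ↔ φ f ∈ Y) (hP : ∀ y, y ∈ Y ↔ Pr blkTen y) : False := by
  have hA : ∀ {g : Perm (Fin 10)}, Perm.sign g = 1 → g ∈ alternatingGroup (Fin 10) := fun h =>
    Perm.mem_alternatingGroup.2 h
  refine kill_of_gens S hinj halt hYr hY (b1 := swap 0 1 * swap 2 3) (b2 := swap 0 2 * swap 1 3)
    ((hP _).2 (by decide +kernel)) ((hP _).2 (by decide +kernel)) (by decide +kernel)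
    (by decide +kernel) (by decide +kernel)
    ⟨swap 6 8 * swap 7 9, hA (by decide +kernel), (hP _).2 (by decide +kernel),
      (hP _).2 (by decide +kernel), swap 8 9, (hP _).2 (by decide +kernel),
      fun h => absurd ((hP _).1 h) (by decide +kernel)⟩ ?_
  set K := Subgroup.closure {x | x ∈ Y ∧ ∃ g ∈ alternatingGroup (Fin 10),
      g⁻¹ * (swap 0 1 * swap 2 3) * g ∈ Y ∧
      g⁻¹ * (swap 0 2 * swap 1 3) * g ∈ Y ∧ g⁻¹ * x * g ∈ Y ∧ ∃ y ∈ Y, g⁻¹ * y * g ∉ Y} with hK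
  have hK1 : ∀ (x g z : Perm (Fin 10)), Pr blkTen x → Perm.sign g = 1 →
      Pr blkTen (g⁻¹ * (swap 0 1 * swap 2 3) * g) →
      Pr blkTen (g⁻¹ * (swap 0 2 * swap 1 3) * g) → Pr blkTen (g⁻¹ * x * g) → Pr blkTen z →
      ¬ Pr blkTen (g⁻¹ * z * g) → x ∈ K := fun x g z h1 h2 h3 h4 h5 h6 h7 =>
    Subgroup.subset_closure ⟨(hP _).2 h1, g, hA h2, (hP _).2 h3, (hP _).2 h4, (hP _).2 h5, z,
      (hP _).2 h6, fun h => h7 ((hP _).1 h)⟩
  have t1 : swap 0 1 * swap 2 3 ∈ K := hK1 _ (swap 6 8 * swap 7 9) (swap 8 9) (by decide +kernel)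
    (by decide +kernel) (by decide +kernel) (by decide +kernel) (by decide +kernel)
    (by decide +kernel) (by decide +kernel)
  have t2 : swap 0 2 * swap 1 3 ∈ K := hK1 _ (swap 6 8 * swap 7 9) (swap 8 9) (by decide +kernel)
    (by decide +kernel) (by decide +kernel) (by decide +kernel) (by decide +kernel)
    (by decide +kernel) (by decide +kernel)
  have u1 : swap 4 5 * swap 6 7 * swap 8 9 ∈ K := hK1 _ (swap 6 8 * swap 7 9) (swap 8 9)
    (by decide +kernel)
    (by decide +kernel) (by decide +kernel) (by decide +kernel) (by decide +kernel)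
    (by decide +kernel) (by decide +kernel)
  have u2 : swap 4 6 * swap 5 7 * swap 8 9 ∈ K := hK1 _ (swap 5 8 * swap 7 9) (swap 8 9)
    (by decide +kernel)
    (by decide +kernel) (by decide +kernel) (by decide +kernel) (by decide +kernel)
    (by decide +kernel) (by decide +kernel)
  have u3 : swap 4 7 * swap 5 6 * swap 8 9 ∈ K := hK1 _ (swap 5 8 * swap 6 9) (swap 8 9)
    (by decide +kernel)
    (by decide +kernel) (by decide +kernel) (by decide +kernel) (by decide +kernel)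
    (by decide +kernel) (by decide +kernel)
  have t3 : swap 0 3 * swap 1 2 ∈ K := by
    have := K.mul_mem t1 t2
    rwa [show swap (0 : Fin 10) 1 * swap 2 3 * (swap 0 2 * swap 1 3) = swap 0 3 * swap 1 2 by
      decide +kernel] at this
  have t9 : swap 8 9 ∈ K := by
    have := K.mul_mem (K.mul_mem u1 u2) u3
    rwa [show swap (4 : Fin 10) 5 * swap 6 7 * swap 8 9 * (swap 4 6 * swap 5 7 * swap 8 9) *
      (swap 4 7 * swap 5 6 * swap 8 9) = swap 8 9 by decide +kernel] at this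
  have v1 : swap 4 5 * swap 6 7 ∈ K := by
    have := K.mul_mem u1 t9
    rwa [show swap (4 : Fin 10) 5 * swap 6 7 * swap 8 9 * swap 8 9 = swap 4 5 * swap 6 7 by
      decide +kernel] at this
  have v2 : swap 4 6 * swap 5 7 ∈ K := by
    have := K.mul_mem u2 t9
    rwa [show swap (4 : Fin 10) 6 * swap 5 7 * swap 8 9 * swap 8 9 = swap 4 6 * swap 5 7 by
      decide +kernel] at this
  have v3 : swap 4 7 * swap 5 6 ∈ K := by
    have := K.mul_mem u3 t9
    rwa [show swap (4 : Fin 10) 7 * swap 5 6 * swap 8 9 * swap 8 9 = swap 4 7 * swap 5 6 by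
      decide +kernel] at this
  let v : Fin 10 → Perm (Fin 10) :=
    ![1, swap 0 1 * swap 2 3, swap 0 2 * swap 1 3, swap 0 3 * swap 1 2, 1, swap 4 5 * swap 6 7,
      swap 4 6 * swap 5 7, swap 4 7 * swap 5 6, 1, swap 8 9]
  have hv : ∀ c, v c ∈ K := by
    intro c
    fin_cases c
    · exact K.one_mem
    · exact t1
    · exact t2
    · exact t3
    · exact K.one_mem
    · exact v1
    · exact v2
    · exact v3
    · exact K.one_mem
    · exact t9
  have hvY : ∀ c, v c ∈ Y := fun c => (hP _).2 (by revert c; decide +kernel)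
  intro y hy
  have h1 := (hP y).1 hy
  have key : ∀ c0 c4 c8 : Fin 10, blkTen c0 = blkTen 0 → blkTen c4 = blkTen 4 →
      blkTen c8 = blkTen 8 →
      (v c0 * v c4 * v c8) 0 = c0 ∧ (v c0 * v c4 * v c8) 4 = c4 ∧
      (v c0 * v c4 * v c8) 8 = c8 := by decide +kernel
  obtain ⟨k0, k4, k8⟩ := key (y 0) (y 4) (y 8) (h1.2.1 0) (h1.2.1 4) (h1.2.1 8)
  have h2 : y = v (y 0) * v (y 4) * v (y 8) := by
    refine eq_of_base (fun y hy => (hP y).1 hy) hy
      (Y.mul_mem (Y.mul_mem (hvY _) (hvY _)) (hvY _)) ?_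
    intro i
    fin_cases i
    · exact ⟨0, rfl, k0.symm⟩
    · exact ⟨0, rfl, k0.symm⟩
    · exact ⟨0, rfl, k0.symm⟩
    · exact ⟨0, rfl, k0.symm⟩
    · exact ⟨4, rfl, k4.symm⟩
    · exact ⟨4, rfl, k4.symm⟩
    · exact ⟨4, rfl, k4.symm⟩
    · exact ⟨4, rfl, k4.symm⟩
    · exact ⟨8, rfl, k8.symm⟩
    · exact ⟨8, rfl, k8.symm⟩
  rw [h2]
  exact K.mul_mem (K.mul_mem (hv _) (hv _)) (hv _)

theorem dead_twelve [Finite V] (S : Sys b H X D e) {φ : H →* Perm (Fin 12)}
    (hinj : Function.Injective φ)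
    (halt : alternatingGroup (Fin 12) ≤ φ.range) {Y : Subgroup (Perm (Fin 12))} (hYr : Y ≤ φ.range)
    (hY : ∀ f : H, (f : V ≃ₗ[ZMod 2] V) ∈ X ↔ φ f ∈ Y) (hP : ∀ y, y ∈ Y ↔ Pr blkTwelve y) :
    False := by
  have hA : ∀ {g : Perm (Fin 12)}, Perm.sign g = 1 → g ∈ alternatingGroup (Fin 12) := fun h =>
    Perm.mem_alternatingGroup.2 h
  refine kill_of_gens S hinj halt hYr hY (b1 := swap 0 1 * swap 2 3) (b2 := swap 0 2 * swap 1 3)
    ((hP _).2 (by decide +kernel)) ((hP _).2 (by decide +kernel)) (by decide +kernel)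
    (by decide +kernel) (by decide +kernel)
    ⟨swap 6 8 * swap 7 9, hA (by decide +kernel), (hP _).2 (by decide +kernel),
      (hP _).2 (by decide +kernel), swap 4 6 * swap 5 7, (hP _).2 (by decide +kernel),
      fun h => absurd ((hP _).1 h) (by decide +kernel)⟩ ?_
  set K := Subgroup.closure {x | x ∈ Y ∧ ∃ g ∈ alternatingGroup (Fin 12),
      g⁻¹ * (swap 0 1 * swap 2 3) * g ∈ Y ∧
      g⁻¹ * (swap 0 2 * swap 1 3) * g ∈ Y ∧ g⁻¹ * x * g ∈ Y ∧ ∃ y ∈ Y, g⁻¹ * y * g ∉ Y} with hK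
  have hK1 : ∀ (x g z : Perm (Fin 12)), Pr blkTwelve x → Perm.sign g = 1 →
      Pr blkTwelve (g⁻¹ * (swap 0 1 * swap 2 3) * g) →
      Pr blkTwelve (g⁻¹ * (swap 0 2 * swap 1 3) * g) → Pr blkTwelve (g⁻¹ * x * g) →
      Pr blkTwelve z →
      ¬ Pr blkTwelve (g⁻¹ * z * g) → x ∈ K := fun x g z h1 h2 h3 h4 h5 h6 h7 =>
    Subgroup.subset_closure ⟨(hP _).2 h1, g, hA h2, (hP _).2 h3, (hP _).2 h4, (hP _).2 h5, z,
      (hP _).2 h6, fun h => h7 ((hP _).1 h)⟩
  have t1 : swap 0 1 * swap 2 3 ∈ K := hK1 _ (swap 6 8 * swap 7 9) (swap 4 6 * swap 5 7)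
    (by decide +kernel)
    (by decide +kernel) (by decide +kernel) (by decide +kernel) (by decide +kernel)
    (by decide +kernel) (by decide +kernel)
  have t2 : swap 0 2 * swap 1 3 ∈ K := hK1 _ (swap 6 8 * swap 7 9) (swap 4 6 * swap 5 7)
    (by decide +kernel)
    (by decide +kernel) (by decide +kernel) (by decide +kernel) (by decide +kernel)
    (by decide +kernel) (by decide +kernel)
  -- `x_i y_j`
  have u11 : swap 4 5 * swap 6 7 * (swap 8 9 * swap 10 11) ∈ K :=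
    hK1 _ (swap 6 8 * swap 7 9) (swap 4 6 * swap 5 7) (by decide +kernel)
    (by decide +kernel) (by decide +kernel) (by decide +kernel) (by decide +kernel)
    (by decide +kernel) (by decide +kernel)
  have u12 : swap 4 5 * swap 6 7 * (swap 8 10 * swap 9 11) ∈ K :=
    hK1 _ (swap 6 8 * swap 7 10) (swap 4 6 * swap 5 7) (by decide +kernel)
    (by decide +kernel) (by decide +kernel) (by decide +kernel) (by decide +kernel)
    (by decide +kernel) (by decide +kernel)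
  have u21 : swap 4 6 * swap 5 7 * (swap 8 9 * swap 10 11) ∈ K :=
    hK1 _ (swap 5 8 * swap 7 9) (swap 4 5 * swap 6 7) (by decide +kernel)
    (by decide +kernel) (by decide +kernel) (by decide +kernel) (by decide +kernel)
    (by decide +kernel) (by decide +kernel)
  have u31 : swap 4 7 * swap 5 6 * (swap 8 9 * swap 10 11) ∈ K :=
    hK1 _ (swap 5 8 * swap 6 9) (swap 4 5 * swap 6 7) (by decide +kernel)
    (by decide +kernel) (by decide +kernel) (by decide +kernel) (by decide +kernel)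
    (by decide +kernel) (by decide +kernel)
  have t3 : swap 0 3 * swap 1 2 ∈ K := by
    have := K.mul_mem t1 t2
    rwa [show swap (0 : Fin 12) 1 * swap 2 3 * (swap 0 2 * swap 1 3) = swap 0 3 * swap 1 2 by
      decide +kernel] at this
  have w1 : swap 8 9 * swap 10 11 ∈ K := by
    have := K.mul_mem (K.mul_mem u11 u21) u31
    rwa [show swap (4 : Fin 12) 5 * swap 6 7 * (swap 8 9 * swap 10 11) *
      (swap 4 6 * swap 5 7 * (swap 8 9 * swap 10 11)) *
      (swap 4 7 * swap 5 6 * (swap 8 9 * swap 10 11)) = swap 8 9 * swap 10 11 by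
        decide +kernel] at this
  have v1 : swap 4 5 * swap 6 7 ∈ K := by
    have := K.mul_mem u11 w1
    rwa [show swap (4 : Fin 12) 5 * swap 6 7 * (swap 8 9 * swap 10 11) *
      (swap 8 9 * swap 10 11) = swap 4 5 * swap 6 7 by
      decide +kernel] at this
  have v2 : swap 4 6 * swap 5 7 ∈ K := by
    have := K.mul_mem u21 w1
    rwa [show swap (4 : Fin 12) 6 * swap 5 7 * (swap 8 9 * swap 10 11) *
      (swap 8 9 * swap 10 11) = swap 4 6 * swap 5 7 by
      decide +kernel] at this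
  have v3 : swap 4 7 * swap 5 6 ∈ K := by
    have := K.mul_mem u31 w1
    rwa [show swap (4 : Fin 12) 7 * swap 5 6 * (swap 8 9 * swap 10 11) *
      (swap 8 9 * swap 10 11) = swap 4 7 * swap 5 6 by
      decide +kernel] at this
  have w2 : swap 8 10 * swap 9 11 ∈ K := by
    have := K.mul_mem v1 u12
    rwa [show swap (4 : Fin 12) 5 * swap 6 7 * (swap 4 5 * swap 6 7 * (swap 8 10 * swap 9 11)) =
      swap 8 10 * swap 9 11 by
      decide +kernel] at this
  have w3 : swap 8 11 * swap 9 10 ∈ K := by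
    have := K.mul_mem w1 w2
    rwa [show swap (8 : Fin 12) 9 * swap 10 11 * (swap 8 10 * swap 9 11) =
      swap 8 11 * swap 9 10 by
      decide +kernel] at this
  let v : Fin 12 → Perm (Fin 12) :=
    ![1, swap 0 1 * swap 2 3, swap 0 2 * swap 1 3, swap 0 3 * swap 1 2, 1, swap 4 5 * swap 6 7,
      swap 4 6 * swap 5 7, swap 4 7 * swap 5 6, 1, swap 8 9 * swap 10 11, swap 8 10 * swap 9 11,
      swap 8 11 * swap 9 10]
  have hv : ∀ c, v c ∈ K := by
    intro c
    fin_cases c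
    · exact K.one_mem
    · exact t1
    · exact t2
    · exact t3
    · exact K.one_mem
    · exact v1
    · exact v2
    · exact v3
    · exact K.one_mem
    · exact w1
    · exact w2
    · exact w3
  have hvY : ∀ c, v c ∈ Y := fun c => (hP _).2 (by revert c; decide +kernel)
  intro y hy
  have h1 := (hP y).1 hy
  have key : ∀ c0 c4 c8 : Fin 12, blkTwelve c0 = blkTwelve 0 → blkTwelve c4 = blkTwelve 4 →
      blkTwelve c8 = blkTwelve 8 →
      (v c0 * v c4 * v c8) 0 = c0 ∧ (v c0 * v c4 * v c8) 4 = c4 ∧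
      (v c0 * v c4 * v c8) 8 = c8 := by decide +kernel
  obtain ⟨k0, k4, k8⟩ := key (y 0) (y 4) (y 8) (h1.2.1 0) (h1.2.1 4) (h1.2.1 8)
  have h2 : y = v (y 0) * v (y 4) * v (y 8) := by
    refine eq_of_base (fun y hy => (hP y).1 hy) hy
      (Y.mul_mem (Y.mul_mem (hvY _) (hvY _)) (hvY _)) ?_
    intro i
    fin_cases i
    · exact ⟨0, rfl, k0.symm⟩
    · exact ⟨0, rfl, k0.symm⟩
    · exact ⟨0, rfl, k0.symm⟩
    · exact ⟨0, rfl, k0.symm⟩
    · exact ⟨4, rfl, k4.symm⟩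
    · exact ⟨4, rfl, k4.symm⟩
    · exact ⟨4, rfl, k4.symm⟩
    · exact ⟨4, rfl, k4.symm⟩
    · exact ⟨8, rfl, k8.symm⟩
    · exact ⟨8, rfl, k8.symm⟩
    · exact ⟨8, rfl, k8.symm⟩
    · exact ⟨8, rfl, k8.symm⟩
  rw [h2]
  exact K.mul_mem (K.mul_mem (hv _) (hv _)) (hv _)

end Cfsg.Agent.Omega.AltRow
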