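import Cfsg.Agent.Omega.AltRow.Four

/-!
# The row `A_n`, last step (helper974): the type `4²·1` (`n = 9`), by the third point of a line
-/

set_option autoImplicit false
set_option maxRecDepth 100000

namespace Cfsg.Agent.Omega.AltRow

open Equiv Cfsg.Agent.Omega.W5 Cfsg.Agent.Omega.W5.NearTI

variable {V : Type*} [AddCommGroup V] [Module (ZMod 2) V]
  {b : LinearMap.BilinForm (ZMod 2) V} {H X : Subgroup (V ≃ₗ[ZMod 2] V)}
  {D : Submodule (ZMod 2) V} {e : V}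

/-- the labels -/
def lab : Fin 9 → Fin 3 := ![0, 0, 0, 0, 1, 1, 1, 1, 2]

theorem blk_lab (i : Fin 9) : blkNine i = (lab i : ℕ) := by
  revert i; decide

theorem blk_iff (i j : Fin 9) : blkNine i = blkNine j ↔ lab i = lab j := by
  rw [blk_lab, blk_lab, Fin.val_inj]

/-- the finite combinatorics -/
theorem comb : ∀ b0 b4 b5 b6 b7 b8 : Fin 3,
    (∀ c : Fin 3, (((((((((if b0 = c then 1 else 0) + if b0 = c then 1 else 0) + if b0 = c then 1 else 0) +
      if b0 = c then 1 else 0) + if b4 = c then 1 else 0) + if b5 = c then 1 else 0) +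
      if b6 = c then 1 else 0) + if b7 = c then 1 else 0) + if b8 = c then 1 else 0) =
      if c = 2 then 1 else 4) →
    (b4 = b7 → b5 = b7) → (b4 = b8 → b5 = b8) → (b5 = b7 → b6 = b7) → (b5 = b8 → b6 = b8) →
    (b6 = b7 → b4 = b7) → (b6 = b8 → b4 = b8) → (b4 = b5 → b5 = b6) → (b4 = b6 → b5 = b4) →
    (b5 = b6 → b6 = b4) →
    b4 = b5 ∧ b5 = b6 ∧ b0 ≠ b4 ∧ ((b7 = b4 ∧ b8 ≠ b4 ∧ b8 ≠ b0) ∨ (b8 = b4 ∧ b7 ≠ b4 ∧ b7 ≠ b0)) := by
  decide +kernel

/-- a permutation preserving the blocks, given by the labels -/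
theorem pres {u : Perm (Fin 9)} (h1 : lab (u 1) = lab (u 0)) (h2 : lab (u 2) = lab (u 0))
    (h3 : lab (u 3) = lab (u 0)) (h5 : lab (u 5) = lab (u 4)) (h6 : lab (u 6) = lab (u 4))
    (h7 : lab (u 7) = lab (u 4)) (h04 : lab (u 0) ≠ lab (u 4)) (h84 : lab (u 8) ≠ lab (u 4))
    (h80 : lab (u 8) ≠ lab (u 0)) (i j : Fin 9) : blkNine (u i) = blkNine (u j) ↔
      blkNine i = blkNine j := by
  rw [blk_iff, blk_iff]
  let F : Fin 3 → Fin 3 := ![lab (u 0), lab (u 4), lab (u 8)]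
  have hF : Function.Injective F := by
    intro a c hac
    fin_cases a <;> fin_cases c
    · rfl
    · exact absurd hac h04
    · exact absurd hac h80.symm
    · exact absurd hac h04.symm
    · rfl
    · exact absurd hac h84.symm
    · exact absurd hac h80
    · exact absurd hac h84
    · rfl
  have key : ∀ i, lab (u i) = F (lab i) := by
    intro i
    fin_cases i
    · rfl
    · exact h1
    · exact h2
    · exact h3
    · rfl
    · exact h5
    · exact h6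
    · exact h7
    · rfl
  rw [key, key]
  exact hF.eq_iff

theorem dead_nine [Finite V] (S : Sys b H X D e) {φ : H →* Perm (Fin 9)}
    (halt : alternatingGroup (Fin 9) ≤ φ.range) {Y : Subgroup (Perm (Fin 9))} (hYr : Y ≤ φ.range)
    (hY : ∀ f : H, (f : V ≃ₗ[ZMod 2] V) ∈ X ↔ φ f ∈ Y) (hP : ∀ y, y ∈ Y ↔ Pr blkNine y) :
    False := by
  have hA : ∀ {g : Perm (Fin 9)}, Perm.sign g = 1 → g ∈ alternatingGroup (Fin 9) := fun h =>
    Perm.mem_alternatingGroup.2 h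
  obtain ⟨b1, hb1⟩ := hYr ((hP (swap 0 1 * swap 2 3)).2 (by decide +kernel))
  obtain ⟨b2, hb2⟩ := hYr ((hP (swap 0 2 * swap 1 3)).2 (by decide +kernel))
  obtain ⟨h, hh⟩ := halt (hA (g := swap 7 8 * swap 0 1) (by decide +kernel))
  obtain ⟨c, hc⟩ := halt (hA (g := swap 4 5 * swap 5 6) (by decide +kernel))
  obtain ⟨f0, hf0⟩ := hYr ((hP (swap 4 5 * swap 6 7)).2 (by decide +kernel))
  have hb1X : (b1 : V ≃ₗ[ZMod 2] V) ∈ X := (hY _).2 (by rw [hb1]; exact (hP _).2 (by decide +kernel))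
  have hb2X : (b2 : V ≃ₗ[ZMod 2] V) ∈ X := (hY _).2 (by rw [hb2]; exact (hP _).2 (by decide +kernel))
  have hf0X : (f0 : V ≃ₗ[ZMod 2] V) ∈ X := (hY _).2 (by rw [hf0]; exact (hP _).2 (by decide +kernel))
  have n1 : (b1 : V ≃ₗ[ZMod 2] V) ≠ 1 := by
    intro h3
    have : b1 = 1 := Subtype.ext h3
    rw [this, map_one] at hb1
    exact absurd hb1 (by decide +kernel)
  have n2 : (b2 : V ≃ₗ[ZMod 2] V) ≠ 1 := by
    intro h3
    have : b2 = 1 := Subtype.ext h3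
    rw [this, map_one] at hb2
    exact absurd hb2 (by decide +kernel)
  have n12 : (b1 : V ≃ₗ[ZMod 2] V) ≠ b2 := by
    intro h3
    have : b1 = b2 := Subtype.ext h3
    rw [this, hb2] at hb1
    exact absurd hb1 (by decide +kernel)
  -- an element preserving the blocks fixes `e`
  have fixe : ∀ k : H, (∀ i j, blkNine (φ k i) = blkNine (φ k j) ↔ blkNine i = blkNine j) →
      (k : V ≃ₗ[ZMod 2] V) e = e := by
    intro k hk
    refine S.fix_of_normalize hb1X hb2X n1 n2 n12 (k := k) fun x hx => ?_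
    exact (conj_mem_iff hY k ⟨x, S.X_le hx⟩).2
      ((hP _).2 (((hP _).1 ((hY ⟨x, S.X_le hx⟩).1 hx)).conj _ hk))
  have hhe : (h : V ≃ₗ[ZMod 2] V) e ≠ e := ne_of_not_mem S hY hf0X (by
    rw [hh, hf0]
    exact fun h => absurd ((hP _).1 h) (by decide +kernel))
  set B : Set (V ≃ₗ[ZMod 2] V) := {(b1 : V ≃ₗ[ZMod 2] V), (b2 : V ≃ₗ[ZMod 2] V)} with hB
  have hBmem : ∀ k : H, (φ k)⁻¹ * (swap 0 1 * swap 2 3) * φ k ∈ Y →
      (φ k)⁻¹ * (swap 0 2 * swap 1 3) * φ k ∈ Y →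
      ∀ f ∈ B, (k : V ≃ₗ[ZMod 2] V)⁻¹ * f * k ∈ X := by
    rintro k h3 h4 f (rfl | rfl)
    · exact (conj_mem_iff hY _ _).2 (by rw [hb1]; exact h3)
    · exact (conj_mem_iff hY _ _).2 (by rw [hb2]; exact h4)
  have p1 : e ∈ Pts H X e B := ⟨1, H.one_mem, rfl, by
    have := hBmem 1 (by rw [map_one]; exact (hP _).2 (by decide +kernel))
      (by rw [map_one]; exact (hP _).2 (by decide +kernel))
    exact this⟩
  have p2 : (h : V ≃ₗ[ZMod 2] V) e ∈ Pts H X e B := ⟨h, h.2, rfl,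
    hBmem h (by rw [hh]; exact (hP _).2 (by decide +kernel))
      (by rw [hh]; exact (hP _).2 (by decide +kernel))⟩
  obtain ⟨k', hk', hke, hkB⟩ := S.pts_add (f := (b1 : V ≃ₗ[ZMod 2] V)) (g := b2) (B := B)
    (by rw [hB]; simp) (by rw [hB]; simp) n1 n2 n12 p1 p2 (Ne.symm hhe)
  obtain ⟨k, rfl⟩ : ∃ k : H, (k : V ≃ₗ[ZMod 2] V) = k' := ⟨⟨k', hk'⟩, rfl⟩
  -- `c` fixes `e`, `h e` and `k e`
  have c1 : (c : V ≃ₗ[ZMod 2] V) e = e := fixe c (by rw [hc]; decide +kernel)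
  have c2 : (c : V ≃ₗ[ZMod 2] V) ((h : V ≃ₗ[ZMod 2] V) e) = (h : V ≃ₗ[ZMod 2] V) e := by
    have := fixe (h⁻¹ * c * h) (by rw [map_mul, map_mul, map_inv, hh, hc]; decide +kernel)
    have h3 : (h : V ≃ₗ[ZMod 2] V)⁻¹ ((c : V ≃ₗ[ZMod 2] V) ((h : V ≃ₗ[ZMod 2] V) e)) = e := this
    have h4 := congrArg (h : V ≃ₗ[ZMod 2] V) h3
    rwa [apply_inv] at h4
  have c3 : (k : V ≃ₗ[ZMod 2] V)⁻¹ ((c : V ≃ₗ[ZMod 2] V) ((k : V ≃ₗ[ZMod 2] V) e)) = e := by
    rw [hke, map_add, c1, c2, ← hke]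
    exact NearTI.inv_apply _ _
  -- so `c^(k⁻¹)` normalises `Y`
  set u : Perm (Fin 9) := (φ k)⁻¹ with hu
  have hcn : ∀ y ∈ Y, (u * (swap 4 5 * swap 5 6) * u⁻¹) * y * (u * (swap 4 5 * swap 5 6) * u⁻¹)⁻¹ ∈ Y := by
    intro y hy
    obtain ⟨x, rfl⟩ := hYr hy
    have h3 := S.normal ((k⁻¹ * c * k : H) : V ≃ₗ[ZMod 2] V) (k⁻¹ * c * k : H).2 c3 _ ((hY x).2 hy)
    have h4 := (hY ((k⁻¹ * c * k) * x * (k⁻¹ * c * k)⁻¹)).1 h3
    rw [map_mul, map_mul, map_inv, map_mul, map_mul, map_inv, hc] at h4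
    rw [hu, inv_inv]
    exact h4
  have hub1 : Pr blkNine (u * (swap 0 1 * swap 2 3) * u⁻¹) := by
    have := (conj_mem_iff hY k b1).1 (hkB _ (by rw [hB]; simp))
    rw [hb1] at this
    have h3 := (hP _).1 this
    rw [hu, inv_inv]; exact h3
  have hub2 : Pr blkNine (u * (swap 0 2 * swap 1 3) * u⁻¹) := by
    have := (conj_mem_iff hY k b2).1 (hkB _ (by rw [hB]; simp))
    rw [hb2] at this
    have h3 := (hP _).1 this
    rw [hu, inv_inv]; exact h3
  have ev : ∀ (g : Perm (Fin 9)) (i : Fin 9), (u * g * u⁻¹) (u i) = u (g i) := by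
    intro g i
    show u (g (u⁻¹ (u i))) = _
    rw [inv_ap]
  have l1 : lab (u 1) = lab (u 0) := by
    have := hub1.2.1 (u 0)
    rw [ev, blk_iff] at this
    exact this
  have l2 : lab (u 2) = lab (u 0) := by
    have := hub2.2.1 (u 0)
    rw [ev, blk_iff] at this
    exact this
  have l3 : lab (u 3) = lab (u 0) := by
    have := hub2.2.1 (u 1)
    rw [ev, blk_iff] at this
    exact this.trans l1
  -- `c' = u c u⁻¹` permutes the blocks
  have trans : ∀ i j : Fin 9, blkNine i = blkNine j → ∃ y ∈ Y, y i = j := by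
    intro i j hij
    have h3 : ∀ i j : Fin 9, blkNine i = blkNine j → ∃ y ∈ [(1 : Perm (Fin 9)), swap 0 1 * swap 2 3,
        swap 0 2 * swap 1 3, swap 0 3 * swap 1 2, swap 4 5 * swap 6 7, swap 4 6 * swap 5 7,
        swap 4 7 * swap 5 6], Pr blkNine y ∧ y i = j := by decide +kernel
    obtain ⟨y, -, hy, hyij⟩ := h3 i j hij
    exact ⟨y, (hP y).2 hy, hyij⟩
  have perm : ∀ i j : Fin 9, lab (u i) = lab (u j) →
      lab (u ((swap 4 5 * swap 5 6 : Perm (Fin 9)) i)) = lab (u ((swap 4 5 * swap 5 6 : Perm (Fin 9)) j)) := by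
    intro i j hij
    obtain ⟨y, hy, hyij⟩ := trans (u i) (u j) ((blk_iff _ _).2 hij)
    have h3 := ((hP _).1 (hcn y hy)).2.1 (u ((swap 4 5 * swap 5 6 : Perm (Fin 9)) i))
    have h4 : (u * (swap 4 5 * swap 5 6) * u⁻¹ * y * (u * (swap 4 5 * swap 5 6) * u⁻¹)⁻¹ : Perm (Fin 9))
        (u ((swap 4 5 * swap 5 6 : Perm (Fin 9)) i)) = u ((swap 4 5 * swap 5 6 : Perm (Fin 9)) j) := by
      have h5 : (u * (swap 4 5 * swap 5 6) * u⁻¹ : Perm (Fin 9))⁻¹ (u ((swap 4 5 * swap 5 6 : Perm (Fin 9)) i)) = u i := by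
        rw [← ev, inv_ap]
      show (u * (swap 4 5 * swap 5 6) * u⁻¹ : Perm (Fin 9)) (y ((u * (swap 4 5 * swap 5 6) * u⁻¹ : Perm (Fin 9))⁻¹
        (u ((swap 4 5 * swap 5 6 : Perm (Fin 9)) i)))) = _
      rw [h5, hyij, ev]
    rw [h4, blk_iff] at h3
    exact h3.symm
  -- counting
  have cnt : ∀ c : Fin 3, (((((((((if lab (u 0) = c then 1 else 0) + if lab (u 0) = c then 1 else 0) +
      if lab (u 0) = c then 1 else 0) +
      if lab (u 0) = c then 1 else 0) + if lab (u 4) = c then 1 else 0) +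
      if lab (u 5) = c then 1 else 0) +
      if lab (u 6) = c then 1 else 0) + if lab (u 7) = c then 1 else 0) +
      if lab (u 8) = c then 1 else 0) = if c = 2 then 1 else 4 := by
    intro c
    have h3 := Equiv.sum_comp u (fun i => if lab i = c then 1 else 0)
    have h4 : ∀ c : Fin 3, (∑ i : Fin 9, if lab i = c then 1 else 0) = if c = 2 then 1 else 4 := by
      decide +kernel
    rw [h4] at h3
    rw [← h3]
    simp only [Fin.sum_univ_castSucc, Fin.sum_univ_zero, zero_add]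
    show _ = (((((((((if lab (u 0) = c then 1 else 0) + if lab (u 1) = c then 1 else 0) +
      if lab (u 2) = c then 1 else 0) +
      if lab (u 3) = c then 1 else 0) + if lab (u 4) = c then 1 else 0) +
      if lab (u 5) = c then 1 else 0) +
      if lab (u 6) = c then 1 else 0) + if lab (u 7) = c then 1 else 0) +
      if lab (u 8) = c then 1 else 0)
    rw [l1, l2, l3]
  obtain ⟨m1, m2, m3, m4⟩ := comb (lab (u 0)) (lab (u 4)) (lab (u 5)) (lab (u 6)) (lab (u 7))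
    (lab (u 8)) cnt (perm 4 7) (perm 4 8) (perm 5 7) (perm 5 8) (perm 6 7) (perm 6 8)
    (perm 4 5) (perm 4 6) (perm 5 6)
  rcases m4 with ⟨m4, m5, m6⟩ | ⟨m4, m5, m6⟩
  · -- `u` preserves the blocks: `k e = e`
    have h3 := fixe k⁻¹ (by
      rw [map_inv]
      exact pres l1 l2 l3 m1.symm (m1.trans m2).symm m4 m3 m5 m6)
    have h4 : (k : V ≃ₗ[ZMod 2] V)⁻¹ e = e := h3
    have h5 : (k : V ≃ₗ[ZMod 2] V) e = e := by
      nth_rewrite 1 [← h4]
      exact apply_inv _ _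
    rw [h5] at hke
    apply hhe
    have h6 : (h : V ≃ₗ[ZMod 2] V) e = 0 := left_eq_add.1 hke
    exfalso
    apply S.ne
    have := NearTI.inv_apply (h : V ≃ₗ[ZMod 2] V) e
    rw [h6, map_zero] at this
    exact this.symm
  · -- `k⁻¹ h` preserves the blocks
    have h3 := fixe (k⁻¹ * h) (by
      rw [map_mul, map_inv, hh]
      refine pres (u := u * (swap 7 8 * swap 0 1)) ?_ ?_ ?_ ?_ ?_ ?_ ?_ ?_ ?_
      · exact l1.symm
      · exact l2.trans l1.symm
      · exact l3.trans l1.symm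
      · exact m1.symm
      · exact (m1.trans m2).symm
      · exact m4
      · exact fun h => m3 (l1.symm.trans h)
      · exact m5
      · exact fun h => m6 (h.trans l1))
    have h4 : (k : V ≃ₗ[ZMod 2] V)⁻¹ ((h : V ≃ₗ[ZMod 2] V) e) = e := h3
    have h5 : (h : V ≃ₗ[ZMod 2] V) e = (k : V ≃ₗ[ZMod 2] V) e := by
      rw [← apply_inv (k : V ≃ₗ[ZMod 2] V) ((h : V ≃ₗ[ZMod 2] V) e), h4]
    rw [← h5] at hke
    exact S.ne (right_eq_add.1 hke)

end Cfsg.Agent.Omega.AltRow
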