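import Mathlib

/-!
# The numerical part of the counting argument for `A_n` (helper77)

`s` = multiset of the exponents `k` of the orbits (length `2^k`) of an elementary abelian 2-group on `pts s` points.
`wt s = ∏ (2^k).descFactorial (k+1) * ∏ (mult k)!` bounds the order of its normaliser, `2^(∑ k)` its order.
`trichotomy`: if `4 ≤ ∑ k` then `33 wt s 4^(∑ k)` is smaller than `8 (pts s)!` (or `16 (pts s)!` and there is an
orbit of length 2 or two fixed points), or `s` is one of 7 small shapes.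
-/

set_option autoImplicit false

namespace Cfsg.Agent.Omega.AltRow.NumBound

open Nat

/-- number of points -/
def pts (s : Multiset ℕ) : ℕ := (s.map (2 ^ ·)).sum

/-- bound for the order of the normaliser -/
def wt (s : Multiset ℕ) : ℕ :=
  (s.map fun k => (2 ^ k).descFactorial (k + 1)).prod * ∏ k ∈ s.toFinset, (s.count k)!

/-- `wt s * 4 ^ (∑ k)` -/
def psi (s : Multiset ℕ) : ℕ := wt s * 4 ^ s.sum

/-- the local factor -/
def cf (k : ℕ) : ℕ := (2 ^ k).descFactorial (k + 1) * 4 ^ k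

theorem pts_cons (k : ℕ) (s : Multiset ℕ) : pts (k ::ₘ s) = pts s + 2 ^ k := by
  rw [pts, Multiset.map_cons, Multiset.sum_cons, add_comm]; rfl

theorem wt_cons (k : ℕ) (s : Multiset ℕ) :
    wt (k ::ₘ s) = wt s * (2 ^ k).descFactorial (k + 1) * (s.count k + 1) := by
  classical
  have h1 : ∀ (t : Multiset ℕ), t.toFinset ⊆ insert k s.toFinset →
      ∏ j ∈ t.toFinset, (t.count j)! = ∏ j ∈ insert k s.toFinset, (t.count j)! := by
    intro t ht
    refine Finset.prod_subset ht fun j _ hj => ?_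
    rw [Multiset.mem_toFinset] at hj
    rw [Multiset.count_eq_zero_of_notMem hj, Nat.factorial_zero]
  have h2 := h1 s (Finset.subset_insert _ _)
  have h3 := h1 (k ::ₘ s) (by rw [Multiset.toFinset_cons])
  rw [wt, wt, h2, h3, Multiset.map_cons, Multiset.prod_cons]
  have h4 : ∏ j ∈ insert k s.toFinset, ((k ::ₘ s).count j)! =
      (∏ j ∈ insert k s.toFinset, (s.count j)!) * (s.count k + 1) := by
    rw [← Finset.mul_prod_erase _ _ (Finset.mem_insert_self k s.toFinset),
      ← Finset.mul_prod_erase _ (fun j => (s.count j)!) (Finset.mem_insert_self k s.toFinset),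
      Multiset.count_cons_self, Nat.factorial_succ]
    have h5 : ∏ j ∈ (insert k s.toFinset).erase k, ((k ::ₘ s).count j)! =
        ∏ j ∈ (insert k s.toFinset).erase k, (s.count j)! := by
      refine Finset.prod_congr rfl fun j hj => ?_
      rw [Multiset.count_cons_of_ne (Finset.ne_of_mem_erase hj)]
    rw [h5]
    ring
  rw [h4]
  ring

theorem psi_cons (k : ℕ) (s : Multiset ℕ) : psi (k ::ₘ s) = psi s * cf k * (s.count k + 1) := by
  rw [psi, psi, wt_cons, Multiset.sum_cons, cf, pow_add]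
  ring

theorem psi_zero : psi 0 = 1 := by
  rw [psi, wt]; simp

/-- list version -/
def psiL : List ℕ → ℕ
  | [] => 1
  | k :: l => psiL l * cf k * (l.count k + 1)

/-- list version -/
def ptsL : List ℕ → ℕ
  | [] => 0
  | k :: l => ptsL l + 2 ^ k

theorem psi_coe (l : List ℕ) : psi (l : Multiset ℕ) = psiL l := by
  induction l with
  | nil => exact psi_zero
  | cons k l ih =>
    rw [← Multiset.cons_coe, psi_cons, ih, psiL, Multiset.coe_count]

theorem pts_coe (l : List ℕ) : pts (l : Multiset ℕ) = ptsL l := by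
  induction l with
  | nil => rfl
  | cons k l ih => rw [← Multiset.cons_coe, pts_cons, ih, ptsL]

theorem count_mul_le (k : ℕ) (s : Multiset ℕ) : s.count k * 2 ^ k ≤ pts s := by
  induction s using Multiset.induction_on with
  | empty => simp [pts]
  | cons j s ih =>
    rw [pts_cons, Multiset.count_cons]
    split_ifs with h
    · rw [h, add_mul, one_mul]; rw [h] at ih; omega
    · rw [add_zero]; exact ih.trans (Nat.le_add_right _ _)

theorem aux1 (k : ℕ) (hk : 4 ≤ k) : 4 ^ k * 1024 ≤ (k + 7)! := by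
  induction k, hk using Nat.le_induction with
  | base => decide +kernel
  | succ k hk ih =>
    have h1 : (k + 1 + 7)! = (k + 8) * (k + 7)! := Nat.factorial_succ (k + 7)
    rw [h1, pow_succ]
    calc 4 ^ k * 4 * 1024 = 4 * (4 ^ k * 1024) := by ring
      _ ≤ (k + 8) * (k + 7)! := Nat.mul_le_mul (by omega) ih

theorem aux2 (k : ℕ) (hk : 4 ≤ k) : 2 * k + 8 ≤ 2 ^ k := by
  induction k, hk using Nat.le_induction with
  | base => decide
  | succ k hk ih => rw [pow_succ]; omega

theorem aux3 (k : ℕ) (hk : 4 ≤ k) : 4 ^ k * 1024 ≤ (2 ^ k - (k + 1))! :=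
  (aux1 k hk).trans (Nat.factorial_le (by have := aux2 k hk; omega))

/-- the factor for an orbit of length `2^k`, `k ≥ 4` -/
theorem cf_le (k : ℕ) (hk : 4 ≤ k) : cf k * 1024 ≤ (2 ^ k)! := by
  have h1 : k + 1 ≤ 2 ^ k := by have := aux2 k hk; omega
  have h2 := Nat.factorial_mul_descFactorial h1
  have h3 := Nat.mul_le_mul_right ((2 ^ k).descFactorial (k + 1)) (aux3 k hk)
  rw [h2] at h3
  refine le_trans (le_of_eq ?_) h3
  rw [cf]
  ring

theorem cross (m p : ℕ) (hp : 8 ≤ p) : (8 + m)! * p ! ≤ (p + m)! * 8 ! := by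
  induction m with
  | zero => rw [add_zero, add_zero, mul_comm]
  | succ m ih =>
    rw [← add_assoc, ← add_assoc, Nat.factorial_succ, Nat.factorial_succ (p + m), mul_assoc,
      mul_assoc]
    exact Nat.mul_le_mul (by omega) ih

theorem grow1 (k p : ℕ) (hp : 8 ≤ p) : cf k * p ! ≤ 2 ^ k * (p + (2 ^ k - 1))! := by
  have h := cross (2 ^ k - 1) p hp
  rcases Nat.lt_or_ge k 4 with h4 | h4
  · have h0 : cf k * 8 ! ≤ 2 ^ k * (8 + (2 ^ k - 1))! := by
      interval_cases k <;> decide +kernel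
    have h1 : cf k * p ! * 8 ! ≤ 2 ^ k * (p + (2 ^ k - 1))! * 8 ! := by
      calc cf k * p ! * 8 ! = (cf k * 8 !) * p ! := by ring
        _ ≤ (2 ^ k * (8 + (2 ^ k - 1))!) * p ! := Nat.mul_le_mul_right _ h0
        _ = 2 ^ k * ((8 + (2 ^ k - 1))! * p !) := by ring
        _ ≤ 2 ^ k * ((p + (2 ^ k - 1))! * 8 !) := Nat.mul_le_mul_left _ h
        _ = _ := by ring
    exact Nat.le_of_mul_le_mul_right h1 (Nat.factorial_pos 8)
  · have h1 := cf_le k h4
    have h2 : (2 ^ k)! = 2 ^ k * (2 ^ k - 1)! :=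
      (Nat.mul_factorial_pred (Nat.pos_iff_ne_zero.1 (Nat.pow_pos (by norm_num)))).symm
    have h3 : (2 ^ k - 1)! * p ! ≤ (p + (2 ^ k - 1))! := by
      rw [mul_comm]
      exact Nat.le_of_dvd (Nat.factorial_pos _) (Nat.factorial_mul_factorial_dvd_factorial_add _ _)
    calc cf k * p ! ≤ cf k * 1024 * p ! := Nat.mul_le_mul_right _ (Nat.le_mul_of_pos_right _ (by norm_num))
      _ ≤ (2 ^ k)! * p ! := Nat.mul_le_mul_right _ h1
      _ = 2 ^ k * ((2 ^ k - 1)! * p !) := by rw [h2]; ring
      _ ≤ _ := Nat.mul_le_mul_left _ h3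

/-- growth -/
theorem grow (k p c : ℕ) (hp : 8 ≤ p) (hc : c * 2 ^ k ≤ p) : p ! * cf k * (c + 1) ≤ (p + 2 ^ k)! := by
  have h1 := grow1 k p hp
  have hpos : 0 < 2 ^ k := Nat.pow_pos (by norm_num)
  have h2 : (p + 2 ^ k)! = (p + 2 ^ k) * (p + (2 ^ k - 1))! := by
    have : p + 2 ^ k = (p + (2 ^ k - 1)) + 1 := by omega
    conv_lhs => rw [this, Nat.factorial_succ]
    rw [← this]
  rw [h2]
  calc p ! * cf k * (c + 1) = (c + 1) * (cf k * p !) := by ring
    _ ≤ (c + 1) * (2 ^ k * (p + (2 ^ k - 1))!) := Nat.mul_le_mul_left _ h1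
    _ = (c * 2 ^ k + 2 ^ k) * (p + (2 ^ k - 1))! := by ring
    _ ≤ _ := Nat.mul_le_mul_right _ (by omega)

/-! ### dead shapes -/

/-- dead, no parity information needed -/
def DOne (s : Multiset ℕ) : Prop := 33 * psi s < 8 * (pts s)!

/-- dead because of an odd permutation centralising the group -/
def DTwo (s : Multiset ℕ) : Prop := 33 * psi s < 16 * (pts s)! ∧ (1 ∈ s ∨ 2 ≤ s.count 0)

theorem DOne.cons {s : Multiset ℕ} (h : DOne s) (hp : 8 ≤ pts s) (k : ℕ) : DOne (k ::ₘ s) := by
  have h1 := grow k (pts s) (s.count k) hp (count_mul_le k s)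
  have hc : 0 < cf k * (s.count k + 1) := by
    refine Nat.mul_pos (Nat.mul_pos ?_ (Nat.pow_pos (by norm_num))) (Nat.succ_pos _)
    exact Nat.descFactorial_pos.2 (Nat.succ_le_of_lt Nat.lt_two_pow_self)
  rw [DOne, psi_cons, pts_cons]
  calc 33 * (psi s * cf k * (s.count k + 1)) = 33 * psi s * (cf k * (s.count k + 1)) := by ring
    _ < 8 * (pts s)! * (cf k * (s.count k + 1)) := Nat.mul_lt_mul_of_pos_right h hc
    _ = 8 * ((pts s)! * cf k * (s.count k + 1)) := by ring
    _ ≤ _ := Nat.mul_le_mul_left _ h1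

theorem DTwo.cons {s : Multiset ℕ} (h : DTwo s) (hp : 8 ≤ pts s) (k : ℕ) : DTwo (k ::ₘ s) := by
  have h1 := grow k (pts s) (s.count k) hp (count_mul_le k s)
  have hc : 0 < cf k * (s.count k + 1) := by
    refine Nat.mul_pos (Nat.mul_pos ?_ (Nat.pow_pos (by norm_num))) (Nat.succ_pos _)
    exact Nat.descFactorial_pos.2 (Nat.succ_le_of_lt Nat.lt_two_pow_self)
  refine ⟨?_, ?_⟩
  · rw [psi_cons, pts_cons]
    calc 33 * (psi s * cf k * (s.count k + 1)) = 33 * psi s * (cf k * (s.count k + 1)) := by ring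
      _ < 16 * (pts s)! * (cf k * (s.count k + 1)) := Nat.mul_lt_mul_of_pos_right h.1 hc
      _ = 16 * ((pts s)! * cf k * (s.count k + 1)) := by ring
      _ ≤ _ := Nat.mul_le_mul_left _ h1
  · rcases h.2 with h2 | h2
    · exact Or.inl (Multiset.mem_cons_of_mem h2)
    · right
      exact h2.trans (Multiset.count_le_of_le 0 (Multiset.le_cons_self s k))

/-- the small shapes without fixed points -/
def small : List (List ℕ) :=
  [[], [1], [1, 1], [1, 1, 1], [2], [2, 1], [3]]

/-- the exceptional shapes without fixed points -/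
def exc : List (List ℕ) :=
  [[1, 1, 1, 1], [2, 1, 1], [2, 2], [1, 1, 1, 1, 1], [2, 2, 1], [2, 2, 2]]

/-- checked for all small and exceptional `l` and `k = 1, 2, 3` -/
def chk (k : ℕ) (l : List ℕ) : Bool :=
  (small.any fun m => decide ((k :: l).Perm m)) || (exc.any fun m => decide ((k :: l).Perm m)) ||
    (decide (8 ≤ ptsL (k :: l)) && (decide (33 * psiL (k :: l) < 8 * (ptsL (k :: l))!) ||
      (decide (33 * psiL (k :: l) < 16 * (ptsL (k :: l))!) && decide (1 ∈ k :: l))))

theorem chk_all : ∀ l ∈ small ++ exc, ∀ k ∈ [1, 2, 3], chk k l = true := by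
  decide +kernel

theorem small_exc_bd : ∀ l ∈ small ++ exc, 33 * psiL l ≤ 528 * (ptsL l)! ∧ ∀ j ∈ l, j < 4 := by
  decide +kernel

/-- dead -/
def Dd (s : Multiset ℕ) : Prop := 8 ≤ pts s ∧ (DOne s ∨ DTwo s)

theorem Dd.cons {s : Multiset ℕ} (h : Dd s) (k : ℕ) : Dd (k ::ₘ s) := by
  refine ⟨by rw [pts_cons]; exact h.1.trans (Nat.le_add_right _ _), ?_⟩
  rcases h.2 with h2 | h2
  · exact Or.inl (h2.cons h.1 k)
  · exact Or.inr (h2.cons h.1 k)

theorem dd_of_four {l : List ℕ} (hl : l ∈ small ++ exc) {k : ℕ} (hk : 4 ≤ k) :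
    Dd (k ::ₘ (l : Multiset ℕ)) := by
  obtain ⟨h1, h2⟩ := small_exc_bd l hl
  have h16 : 16 ≤ 2 ^ k := by
    calc 16 = 2 ^ 4 := rfl
      _ ≤ 2 ^ k := Nat.pow_le_pow_right (by norm_num) hk
  refine ⟨by rw [pts_cons]; omega, Or.inl ?_⟩
  have h3 : (l : Multiset ℕ).count k = 0 := by
    rw [Multiset.count_eq_zero]
    intro h
    have := h2 k (Multiset.mem_coe.1 h)
    omega
  have h4 := cf_le k hk
  have h5 : (2 ^ k)! * (ptsL l)! ≤ (ptsL l + 2 ^ k)! := by
    rw [mul_comm]
    exact Nat.le_of_dvd (Nat.factorial_pos _) (Nat.factorial_mul_factorial_dvd_factorial_add _ _)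
  have hc : 0 < (ptsL l)! * cf k := by
    refine Nat.mul_pos (Nat.factorial_pos _) (Nat.mul_pos ?_ (Nat.pow_pos (by norm_num)))
    exact Nat.descFactorial_pos.2 (Nat.succ_le_of_lt Nat.lt_two_pow_self)
  rw [DOne, psi_cons, pts_cons, h3, zero_add, mul_one, psi_coe, pts_coe]
  calc 33 * (psiL l * cf k) = 33 * psiL l * cf k := by ring
    _ ≤ 528 * (ptsL l)! * cf k := Nat.mul_le_mul_right _ h1
    _ = 528 * ((ptsL l)! * cf k) := by ring
    _ < 8192 * ((ptsL l)! * cf k) := Nat.mul_lt_mul_of_pos_right (by norm_num) hc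
    _ = 8 * ((cf k * 1024) * (ptsL l)!) := by ring
    _ ≤ 8 * ((2 ^ k)! * (ptsL l)!) := Nat.mul_le_mul_left _ (Nat.mul_le_mul_right _ h4)
    _ ≤ _ := Nat.mul_le_mul_left _ h5

/-- shapes without fixed points -/
theorem shapes (t : Multiset ℕ) (h0 : 0 ∉ t) :
    (∃ l ∈ small, t = l) ∨ (∃ l ∈ exc, t = l) ∨ Dd t := by
  induction t using Multiset.induction_on with
  | empty => exact Or.inl ⟨[], by decide, rfl⟩
  | cons k t ih =>
    have hk : k ≠ 0 := fun h => h0 (h ▸ Multiset.mem_cons_self k t)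
    have ht : 0 ∉ t := fun h => h0 (Multiset.mem_cons_of_mem h)
    have key : ∀ l ∈ small ++ exc, (∃ m ∈ small, k ::ₘ (l : Multiset ℕ) = m) ∨
        (∃ m ∈ exc, k ::ₘ (l : Multiset ℕ) = m) ∨ Dd (k ::ₘ (l : Multiset ℕ)) := by
      intro l hl
      rcases Nat.lt_or_ge k 4 with h4 | h4
      · have hk' : k ∈ [1, 2, 3] := by
          have : k = 1 ∨ k = 2 ∨ k = 3 := by omega
          rcases this with h | h | h <;> simp [h]
        have h1 := chk_all l hl k hk'
        simp only [chk, Bool.or_eq_true, Bool.and_eq_true, List.any_eq_true, decide_eq_true_eq] at h1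
        rcases h1 with (⟨m, hm, h2⟩ | ⟨m, hm, h2⟩) | ⟨h3, h2⟩
        · left
          exact ⟨m, hm, by rw [Multiset.cons_coe]; exact Multiset.coe_eq_coe.2 h2⟩
        · right; left
          exact ⟨m, hm, by rw [Multiset.cons_coe]; exact Multiset.coe_eq_coe.2 h2⟩
        · right; right
          rw [Multiset.cons_coe]
          refine ⟨by rw [pts_coe]; exact h3, ?_⟩
          rcases h2 with h2 | ⟨h2, h4⟩
          · left
            rw [DOne, psi_coe, pts_coe]; exact h2
          · right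
            refine ⟨by rw [psi_coe, pts_coe]; exact h2, Or.inl ?_⟩
            exact Multiset.mem_coe.2 h4
      · exact Or.inr (Or.inr (dd_of_four hl h4))
    rcases ih ht with ⟨l, hl, rfl⟩ | ⟨l, hl, rfl⟩ | h
    · exact key l (List.mem_append_left _ hl)
    · exact key l (List.mem_append_right _ hl)
    · exact Or.inr (Or.inr (h.cons k))

/-- one or two fixed points added to an exceptional shape -/
theorem exc_zero : ∀ l ∈ exc, l = [2, 2] ∨ (8 ≤ ptsL (0 :: l) ∧
    (33 * psiL (0 :: l) < 8 * (ptsL (0 :: l))! ∨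
      (33 * psiL (0 :: l) < 16 * (ptsL (0 :: l))! ∧ 1 ∈ 0 :: l))) := by
  decide +kernel

theorem exc_two : 8 ≤ ptsL [0, 0, 2, 2] ∧ 33 * psiL [0, 0, 2, 2] < 8 * (ptsL [0, 0, 2, 2])! := by
  decide +kernel

theorem zeros {l : List ℕ} (hl : l ∈ exc) (m : ℕ) : m = 0 ∨ (m = 1 ∧ l = [2, 2]) ∨
    Dd ((l : Multiset ℕ) + Multiset.replicate m 0) := by
  induction m with
  | zero => exact Or.inl rfl
  | succ m ih =>
    have h1 : (l : Multiset ℕ) + Multiset.replicate (m + 1) 0 =
        0 ::ₘ ((l : Multiset ℕ) + Multiset.replicate m 0) := by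
      rw [Multiset.replicate_succ, Multiset.add_cons]
    rcases ih with h | ⟨h, h'⟩ | h
    · subst h
      rcases exc_zero l hl with h2 | ⟨h2, h3⟩
      · exact Or.inr (Or.inl ⟨rfl, h2⟩)
      · right; right
        rw [h1, Multiset.replicate_zero, add_zero, Multiset.cons_coe]
        refine ⟨by rw [pts_coe]; exact h2, ?_⟩
        rcases h3 with h3 | ⟨h3, h4⟩
        · left
          rw [DOne, psi_coe, pts_coe]; exact h3
        · right
          refine ⟨by rw [psi_coe, pts_coe]; exact h3, Or.inl ?_⟩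
          exact Multiset.mem_coe.2 h4
    · subst h
      subst h'
      right; right
      have h2 : (([2, 2] : List ℕ) : Multiset ℕ) + Multiset.replicate (1 + 1) 0 =
          (([0, 0, 2, 2] : List ℕ) : Multiset ℕ) := by decide
      rw [h2]
      refine ⟨by rw [pts_coe]; exact exc_two.1, Or.inl ?_⟩
      rw [DOne, psi_coe, pts_coe]; exact exc_two.2
    · right; right
      rw [h1]
      exact h.cons 0

/-- **the trichotomy** -/
theorem trichotomy (s : Multiset ℕ) (h4 : 4 ≤ s.sum) :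
    DOne s ∨ DTwo s ∨ (∃ l ∈ exc, s = l) ∨ s = (([2, 2, 0] : List ℕ) : Multiset ℕ) := by
  classical
  have h1 : s = s.filter (· ≠ 0) + Multiset.replicate (s.count 0) 0 := by
    conv_lhs => rw [← Multiset.filter_add_not (fun x => x ≠ 0) s]
    congr 1
    have : (fun a => ¬ (a ≠ 0)) = (fun a : ℕ => a = 0) := by
      funext a; simp
    simp only [ne_eq, not_not]
    rw [Multiset.filter_eq']
  have h0 : 0 ∉ s.filter (· ≠ 0) := by
    rw [Multiset.mem_filter]
    rintro ⟨-, h⟩
    exact h rfl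
  have hsum : (s.filter (· ≠ 0)).sum = s.sum := by
    conv_rhs => rw [h1, Multiset.sum_add, Multiset.sum_replicate, smul_zero, add_zero]
  rcases shapes _ h0 with ⟨l, hl, h2⟩ | ⟨l, hl, h2⟩ | h2
  · exfalso
    rw [h2, Multiset.sum_coe] at hsum
    have : ∀ l ∈ small, l.sum ≤ 3 := by decide
    have := this l hl
    omega
  · rw [h2] at h1
    rcases zeros hl (s.count 0) with h3 | ⟨h3, h5⟩ | h3
    · right; right; left
      refine ⟨l, hl, ?_⟩
      conv_lhs => rw [h1, h3, Multiset.replicate_zero, add_zero]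
    · right; right; right
      conv_lhs => rw [h1, h3, h5]
      decide
    · rw [← h1] at h3
      rcases h3.2 with h | h
      · exact Or.inl h
      · exact Or.inr (Or.inl h)
  · have h3 : ∀ m, Dd (s.filter (· ≠ 0) + Multiset.replicate m 0) := by
      intro m
      induction m with
      | zero => rw [Multiset.replicate_zero, add_zero]; exact h2
      | succ m ih =>
        rw [Multiset.replicate_succ, Multiset.add_cons]
        exact ih.cons 0
    have h5 := h3 (s.count 0)
    rw [← h1] at h5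
    rcases h5.2 with h | h
    · exact Or.inl h
    · exact Or.inr (Or.inl h)

end Cfsg.Agent.Omega.AltRow.NumBound
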