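import Mathlib

/-!
# Elementary abelian 2-groups of permutations: bounds for the group and its normaliser (helper77)

`A ≤ Sym(α)` with `a * a = 1` for `a ∈ A`; `s A` = multiset of the `log₂` of the orbit lengths. Then
`∑ 2^k = |α|`, `|A| ≤ 2^(∑ k)` and, for every `N` normalising `A`,
`|N| ≤ ∏ (2^k).descFactorial (k+1) * ∏ (mult k)!`.
-/

set_option autoImplicit false

namespace Cfsg.Agent.Omega.AltRow.PermBound

open MulAction

section gen

variable {A : Type*} [Group A]

/-- generators over a subgroup of index `2^k` -/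
theorem exists_gen [Finite A] (hA : ∀ a : A, a * a = 1) (k : ℕ) : ∀ B : Subgroup A, B.index = 2 ^ k →
    ∃ t : Fin k → A, (∀ j, t j ∉ B) ∧ (∀ i j, (t i)⁻¹ * t j ∈ B → i = j) ∧
      B ⊔ Subgroup.closure (Set.range t) = ⊤ := by
  have hc : ∀ a b : A, a * b = b * a := by
    intro a b
    have h1 := hA (a * b)
    have ha : a⁻¹ = a := inv_eq_of_mul_eq_one_left (hA a)
    have hb : b⁻¹ = b := inv_eq_of_mul_eq_one_left (hA b)
    have h2 : (a * b)⁻¹ = a * b := inv_eq_of_mul_eq_one_left h1
    rw [← h2, mul_inv_rev, ha, hb]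
  induction k with
  | zero =>
    intro B hB
    rw [pow_zero, Subgroup.index_eq_one] at hB
    refine ⟨Fin.elim0, fun j => j.elim0, fun i => i.elim0, ?_⟩
    rw [hB, top_sup_eq]
  | succ k ih =>
    intro B hB
    have hB1 : B ≠ ⊤ := by
      intro h
      rw [← Subgroup.index_eq_one, hB] at h
      have : 2 ≤ 2 ^ (k + 1) := by
        calc 2 = 2 ^ 1 := rfl
          _ ≤ 2 ^ (k + 1) := Nat.pow_le_pow_right (by norm_num) (by omega)
      omega
    obtain ⟨a, ha⟩ : ∃ a, a ∉ B := by
      by_contra hcon
      push Not at hcon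
      exact hB1 (eq_top_iff.2 fun x _ => hcon x)
    -- the subgroup `B ⊔ ⟨a⟩`
    have hmem : ∀ x, x ∈ B ⊔ Subgroup.zpowers a ↔ x ∈ B ∨ a * x ∈ B := by
      intro x
      constructor
      · intro hx
        have hle : B ⊔ Subgroup.zpowers a ≤
            ({ carrier := {x | x ∈ B ∨ a * x ∈ B}
               one_mem' := Or.inl B.one_mem
               mul_mem' := by
                 rintro x y (hx | hx) (hy | hy)
                 · exact Or.inl (B.mul_mem hx hy)
                 · right
                   show a * (x * y) ∈ B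
                   have : a * (x * y) = x * (a * y) := by rw [← mul_assoc, hc a x, mul_assoc]
                   rw [this]; exact B.mul_mem hx hy
                 · right
                   show a * (x * y) ∈ B
                   rw [← mul_assoc]; exact B.mul_mem hx hy
                 · left
                   show x * y ∈ B
                   have : x * y = (a * x) * (a * y) := by
                     calc x * y = (a * a) * (x * y) := by rw [hA, one_mul]
                       _ = a * (a * x) * y := by group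
                       _ = a * (x * a) * y := by rw [hc a x]
                       _ = _ := by group
                   rw [this]; exact B.mul_mem hx hy
               inv_mem' := by
                 rintro x (hx | hx)
                 · exact Or.inl (B.inv_mem hx)
                 · right
                   show a * x⁻¹ ∈ B
                   rw [inv_eq_of_mul_eq_one_left (hA x)]; exact hx } : Subgroup A) := by
          apply sup_le
          · intro y hy; exact Or.inl hy
          · rw [Subgroup.zpowers_le]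
            right
            show a * a ∈ B
            rw [hA]; exact B.one_mem
        exact hle hx
      · rintro (hx | hx)
        · exact Subgroup.mem_sup_left hx
        · have h1 : a ∈ B ⊔ Subgroup.zpowers a :=
            Subgroup.mem_sup_right (Subgroup.mem_zpowers a)
          have h2 : x = a * (a * x) := by rw [← mul_assoc, hA, one_mul]
          rw [h2]
          exact Subgroup.mul_mem _ h1 (Subgroup.mem_sup_left hx)
    have hidx : (B ⊔ Subgroup.zpowers a).index = 2 ^ k := by
      have h1 : B.relIndex (B ⊔ Subgroup.zpowers a) = 2 := by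
        rw [Subgroup.relIndex, Subgroup.index_eq_two_iff]
        refine ⟨⟨a, Subgroup.mem_sup_right (Subgroup.mem_zpowers a)⟩, ?_⟩
        rintro ⟨x, hx⟩
        rw [Subgroup.mem_subgroupOf, Subgroup.mem_subgroupOf]
        show Xor (x * a ∈ B) (x ∈ B)
        rw [hc x a]
        rcases (hmem x).1 hx with h | h
        · right
          refine ⟨h, fun h' => ha ?_⟩
          have : a = (a * x) * x⁻¹ := by group
          rw [this]; exact B.mul_mem h' (B.inv_mem h)
        · left
          refine ⟨h, fun h' => ha ?_⟩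
          have : a = (a * x) * x⁻¹ := by group
          rw [this]; exact B.mul_mem h (B.inv_mem h')
      have h2 := Subgroup.relIndex_mul_index (le_sup_left : B ≤ B ⊔ Subgroup.zpowers a)
      rw [h1, hB, pow_succ] at h2
      omega
    obtain ⟨t, h1, h2, h3⟩ := ih _ hidx
    refine ⟨Fin.cons a t, ?_, ?_, ?_⟩
    · intro j
      refine Fin.cases ?_ (fun j => ?_) j
      · rw [Fin.cons_zero]; exact ha
      · rw [Fin.cons_succ]
        exact fun h => h1 j (Subgroup.mem_sup_left h)
    · intro i j
      refine Fin.cases ?_ (fun i => ?_) i <;> refine Fin.cases ?_ (fun j => ?_) j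
      · intro _; rfl
      · rw [Fin.cons_zero, Fin.cons_succ]
        intro h
        exfalso
        apply h1 j
        have : t j = a * (a⁻¹ * t j) := by group
        rw [this]
        exact Subgroup.mul_mem _ (Subgroup.mem_sup_right (Subgroup.mem_zpowers a))
          (Subgroup.mem_sup_left h)
      · rw [Fin.cons_zero, Fin.cons_succ]
        intro h
        exfalso
        apply h1 i
        have : t i = a * ((t i)⁻¹ * a)⁻¹ := by group
        rw [this]
        exact Subgroup.mul_mem _ (Subgroup.mem_sup_right (Subgroup.mem_zpowers a))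
          (Subgroup.mem_sup_left (B.inv_mem h))
      · rw [Fin.cons_succ, Fin.cons_succ]
        intro h
        rw [h2 i j (Subgroup.mem_sup_left h)]
    · rw [eq_top_iff, ← h3]
      have ha' : a ∈ B ⊔ Subgroup.closure (Set.range (Fin.cons a t : Fin (k + 1) → A)) :=
        Subgroup.mem_sup_right (Subgroup.subset_closure ⟨0, Fin.cons_zero _ _⟩)
      refine sup_le (sup_le le_sup_left ?_) ?_
      · rw [Subgroup.zpowers_le]; exact ha'
      · rw [Subgroup.closure_le]
        rintro _ ⟨j, rfl⟩
        exact Subgroup.mem_sup_right (Subgroup.subset_closure ⟨j.succ, Fin.cons_succ _ _ _⟩)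

end gen

section perm

set_option linter.unusedSectionVars false

variable {α : Type*} [Finite α]

/-- the set of orbits -/
abbrev Orb (A : Subgroup (Equiv.Perm α)) : Type _ := orbitRel.Quotient A α

/-- the orbit of a point -/
def cl (A : Subgroup (Equiv.Perm α)) (x : α) : Orb A := Quotient.mk'' x

theorem cl_eq {A : Subgroup (Equiv.Perm α)} {x y : α} : cl A x = cl A y ↔ ∃ a ∈ A, a y = x := by
  rw [cl, cl, Quotient.eq'']
  show x ∈ orbit A y ↔ _
  constructor
  · rintro ⟨a, ha⟩
    exact ⟨a, a.2, ha⟩
  · rintro ⟨a, ha, h⟩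
    exact ⟨⟨a, ha⟩, h⟩

theorem cl_apply {A : Subgroup (Equiv.Perm α)} {a : Equiv.Perm α} (ha : a ∈ A) (x : α) :
    cl A (a x) = cl A x := cl_eq.2 ⟨a, ha, rfl⟩

theorem cl_surj (A : Subgroup (Equiv.Perm α)) (i : Orb A) : ∃ x, cl A x = i := by
  induction i using Quotient.inductionOn' with
  | h x => exact ⟨x, rfl⟩

/-- the length of an orbit -/
noncomputable def sz (A : Subgroup (Equiv.Perm α)) (i : Orb A) : ℕ := Nat.card {x // cl A x = i}

/-- the exponent of an orbit -/
noncomputable def ex (A : Subgroup (Equiv.Perm α)) (i : Orb A) : ℕ := Nat.log 2 (sz A i)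

variable {A : Subgroup (Equiv.Perm α)}

theorem index_stab (x : α) : (stabilizer A x).index = sz A (cl A x) := by
  rw [index_stabilizer, sz, ← Nat.card_coe_set_eq]
  refine Nat.card_congr (Equiv.subtypeEquivRight fun y => ?_)
  rw [cl_eq]
  constructor
  · rintro ⟨a, ha⟩
    exact ⟨a, a.2, ha⟩
  · rintro ⟨a, ha, h⟩
    exact ⟨⟨a, ha⟩, h⟩

theorem comm_of_sq (hA : ∀ a ∈ A, a * a = 1) {a b : Equiv.Perm α} (ha : a ∈ A) (hb : b ∈ A) :
    a * b = b * a := by
  have ha' : a⁻¹ = a := inv_eq_of_mul_eq_one_left (hA a ha)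
  have hb' : b⁻¹ = b := inv_eq_of_mul_eq_one_left (hA b hb)
  have h2 : (a * b)⁻¹ = a * b := inv_eq_of_mul_eq_one_left (hA _ (A.mul_mem ha hb))
  rw [← h2, mul_inv_rev, ha', hb']

/-- an element fixing a point fixes the orbit -/
theorem fix_of_fix (hA : ∀ a ∈ A, a * a = 1) {a : Equiv.Perm α} (ha : a ∈ A) {x y : α}
    (hx : a x = x) (h : cl A y = cl A x) : a y = y := by
  obtain ⟨b, hb, rfl⟩ := cl_eq.1 h
  rw [← Equiv.Perm.mul_apply, comm_of_sq hA ha hb, Equiv.Perm.mul_apply, hx]

theorem exists_card (hA : ∀ a ∈ A, a * a = 1) : ∃ r, Nat.card A = 2 ^ r := by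
  have h : IsPGroup 2 A := by
    intro a
    refine ⟨1, Subtype.ext ?_⟩
    show ((a : Equiv.Perm α)) ^ (2 ^ 1) = 1
    rw [pow_one, pow_two]; exact hA a a.2
  have : Finite A := inferInstance
  exact (IsPGroup.iff_card (p := 2)).1 h

theorem sz_eq (hA : ∀ a ∈ A, a * a = 1) (i : Orb A) : sz A i = 2 ^ ex A i := by
  obtain ⟨x, rfl⟩ := cl_surj A i
  obtain ⟨r, hr⟩ := exists_card hA
  have h1 := Subgroup.index_dvd_card (stabilizer A x)
  rw [index_stab, hr] at h1
  obtain ⟨k, -, hk⟩ := (Nat.dvd_prime_pow Nat.prime_two).1 h1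
  rw [ex, hk, Nat.log_pow (by norm_num)]

theorem sum_sz (A : Subgroup (Equiv.Perm α)) [Fintype (Orb A)] : ∑ i, sz A i = Nat.card α := by
  classical
  have := Fintype.ofFinite α
  rw [Nat.card_eq_fintype_card, ← Fintype.card_congr (Equiv.sigmaFiberEquiv (cl A)),
    Fintype.card_sigma]
  refine Finset.sum_congr rfl fun i _ => ?_
  rw [sz, Nat.card_eq_fintype_card]

theorem card_le (hA : ∀ a ∈ A, a * a = 1) [Fintype (Orb A)] : Nat.card A ≤ ∏ i, sz A i := by
  classical
  have hf := Fintype.ofFinite α
  choose x hx using cl_surj A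
  let F : A → (i : Orb A) → {x // cl A x = i} := fun a i =>
    ⟨(a : Equiv.Perm α) (x i), by rw [cl_apply a.2, hx]⟩
  have hF : Function.Injective F := by
    intro a b hab
    have h1 : ∀ i, (a : Equiv.Perm α) (x i) = (b : Equiv.Perm α) (x i) := fun i =>
      congrArg Subtype.val (congrFun hab i)
    have h2 : ∀ y, ((b : Equiv.Perm α)⁻¹ * a) y = y := by
      intro y
      refine fix_of_fix hA (A.mul_mem (A.inv_mem b.2) a.2) (x := x (cl A y)) ?_ (hx _).symm
      rw [Equiv.Perm.mul_apply, h1, ← Equiv.Perm.mul_apply, inv_mul_cancel, Equiv.Perm.one_apply]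
    have h3 : (b : Equiv.Perm α)⁻¹ * a = 1 := Equiv.ext h2
    exact Subtype.ext (inv_mul_eq_one.1 h3).symm
  have h4 := Nat.card_le_card_of_injective F hF
  rw [Nat.card_pi] at h4
  exact h4

/-- base tuples -/
theorem exists_base (hA : ∀ a ∈ A, a * a = 1) (i : Orb A) :
    ∃ t : Fin (ex A i + 1) → α, Function.Injective t ∧ (∀ j, cl A (t j) = i) ∧
      ∀ n : Equiv.Perm α, (∀ a ∈ A, n * a * n⁻¹ ∈ A) → (∀ j, n (t j) = t j) →
        ∀ y, cl A y = i → n y = y := by
  obtain ⟨x, rfl⟩ := cl_surj A i
  have hA' : ∀ a : A, a * a = 1 := fun a => Subtype.ext (hA a a.2)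
  have hidx : (stabilizer A x).index = 2 ^ ex A (cl A x) := by rw [index_stab, sz_eq hA]
  obtain ⟨t, h1, h2, h3⟩ := exists_gen hA' _ _ hidx
  refine ⟨Fin.cons x fun j => (t j : Equiv.Perm α) x, ?_, ?_, ?_⟩
  · intro i j
    refine Fin.cases ?_ (fun i => ?_) i <;> refine Fin.cases ?_ (fun j => ?_) j
    · intro _; rfl
    · rw [Fin.cons_zero, Fin.cons_succ]
      intro h
      exact absurd h.symm (h1 j)
    · rw [Fin.cons_zero, Fin.cons_succ]
      intro h
      exact absurd h (h1 i)
    · rw [Fin.cons_succ, Fin.cons_succ]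
      intro h
      rw [h2 i j ?_]
      show (t i : Equiv.Perm α)⁻¹ ((t j : Equiv.Perm α) x) = x
      rw [← h, Equiv.Perm.inv_eq_iff_eq]
  · intro j
    refine Fin.cases ?_ (fun j => ?_) j
    · rw [Fin.cons_zero]
    · rw [Fin.cons_succ, cl_apply (t j).2]
  · intro n hn ht y hy
    have hx : n x = x := by
      have := ht 0
      rwa [Fin.cons_zero] at this
    have hj : ∀ j, n ((t j : Equiv.Perm α) x) = (t j : Equiv.Perm α) x := by
      intro j
      have := ht j.succ
      rwa [Fin.cons_succ] at this
    -- the subgroup of all `a` with `n (a x) = a x`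
    let T : Subgroup A :=
      { carrier := {a | n ((a : Equiv.Perm α) x) = (a : Equiv.Perm α) x}
        one_mem' := by
          show n ((1 : Equiv.Perm α) x) = (1 : Equiv.Perm α) x
          rw [Equiv.Perm.one_apply]; exact hx
        mul_mem' := by
          intro a b ha hb
          have ha : n ((a : Equiv.Perm α) x) = (a : Equiv.Perm α) x := ha
          have hb : n ((b : Equiv.Perm α) x) = (b : Equiv.Perm α) x := hb
          show n (((a : Equiv.Perm α) * b) x) = ((a : Equiv.Perm α) * b) x
          -- `n a n⁻¹` and `a` agree at `x`, hence on the orbit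
          have h4 : (n * a * n⁻¹) x = (a : Equiv.Perm α) x := by
            have : n⁻¹ x = x := by rw [Equiv.Perm.inv_eq_iff_eq]; exact hx.symm
            rw [Equiv.Perm.mul_apply, Equiv.Perm.mul_apply, this, ha]
          have h5 : ((a : Equiv.Perm α)⁻¹ * (n * a * n⁻¹)) x = x := by
            rw [Equiv.Perm.mul_apply, h4, Equiv.Perm.inv_eq_iff_eq]
          have h6 : ((a : Equiv.Perm α)⁻¹ * (n * a * n⁻¹)) ((b : Equiv.Perm α) x) =
              (b : Equiv.Perm α) x :=
            fix_of_fix hA (A.mul_mem (A.inv_mem a.2) (hn a a.2)) h5 (cl_apply b.2 x)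
          have h7 : (n * a * n⁻¹) ((b : Equiv.Perm α) x) = (a : Equiv.Perm α) ((b : Equiv.Perm α) x) := by
            rw [Equiv.Perm.mul_apply, Equiv.Perm.inv_eq_iff_eq] at h6
            exact h6
          have h8 : n⁻¹ ((b : Equiv.Perm α) x) = (b : Equiv.Perm α) x := by
            rw [Equiv.Perm.inv_eq_iff_eq]; exact hb.symm
          rw [Equiv.Perm.mul_apply, Equiv.Perm.mul_apply, h8] at h7
          exact h7
        inv_mem' := by
          intro a ha
          have : a⁻¹ = a := inv_eq_of_mul_eq_one_left (hA' a)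
          rw [this]; exact ha }
    have hT : T = ⊤ := by
      rw [eq_top_iff, ← h3]
      refine sup_le ?_ ?_
      · intro a ha
        have ha : (a : Equiv.Perm α) x = x := ha
        show n ((a : Equiv.Perm α) x) = (a : Equiv.Perm α) x
        rw [ha]; exact hx
      · rw [Subgroup.closure_le]
        rintro _ ⟨j, rfl⟩
        exact hj j
    obtain ⟨a, ha, rfl⟩ := cl_eq.1 hy
    have : (⟨a, ha⟩ : A) ∈ T := by rw [hT]; trivial
    exact this

/-! ### the normaliser -/

/-- the action of the normaliser on the orbits -/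
noncomputable def act (A N : Subgroup (Equiv.Perm α)) (hN : ∀ n ∈ N, ∀ a ∈ A, n * a * n⁻¹ ∈ A) :
    N →* Equiv.Perm (Orb A) :=
  letI : MulAction N (Orb A) :=
    { smul := fun n i => Quotient.map' (fun x => (n : Equiv.Perm α) x) (by
        rintro x y hxy
        obtain ⟨⟨a, ha⟩, h⟩ := hxy
        refine ⟨⟨_, hN n n.2 a ha⟩, ?_⟩
        show ((n : Equiv.Perm α) * a * (n : Equiv.Perm α)⁻¹) ((n : Equiv.Perm α) y) = (n : Equiv.Perm α) x
        have h' : a y = x := h
        rw [← h', Equiv.Perm.mul_apply, Equiv.Perm.mul_apply]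
        congr 2
        rw [Equiv.Perm.inv_eq_iff_eq]) i
      one_smul := by
        intro i
        induction i using Quotient.inductionOn' with
        | h x => rfl
      mul_smul := by
        intro m n i
        induction i using Quotient.inductionOn' with
        | h x => rfl }
  MulAction.toPermHom N (Orb A)

theorem act_cl (A N : Subgroup (Equiv.Perm α)) (hN : ∀ n ∈ N, ∀ a ∈ A, n * a * n⁻¹ ∈ A) (n : N)
    (x : α) : act A N hN n (cl A x) = cl A ((n : Equiv.Perm α) x) := rfl

theorem sz_act (A N : Subgroup (Equiv.Perm α)) (hN : ∀ n ∈ N, ∀ a ∈ A, n * a * n⁻¹ ∈ A) (n : N)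
    (i : Orb A) : sz A (act A N hN n i) = sz A i := by
  symm
  refine Nat.card_congr
    { toFun := fun x => ⟨(n : Equiv.Perm α) x, by rw [← act_cl A N hN, x.2]⟩
      invFun := fun y => ⟨(n : Equiv.Perm α)⁻¹ y, ?_⟩
      left_inv := ?_
      right_inv := ?_ }
  · have h1 : act A N hN n (cl A ((n : Equiv.Perm α)⁻¹ y)) = act A N hN n i := by
      have e : (n : Equiv.Perm α) ((n : Equiv.Perm α)⁻¹ y) = y :=
        (Equiv.Perm.inv_eq_iff_eq.1 rfl).symm
      rw [act_cl, e]
      exact y.2
    exact (act A N hN n).injective h1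
  · intro x
    apply Subtype.ext
    show (n : Equiv.Perm α)⁻¹ ((n : Equiv.Perm α) x) = x
    rw [Equiv.Perm.inv_eq_iff_eq]
  · intro y
    apply Subtype.ext
    show (n : Equiv.Perm α) ((n : Equiv.Perm α)⁻¹ y) = y
    exact (Equiv.Perm.inv_eq_iff_eq.1 rfl).symm

/-- the number of size preserving permutations of the orbits -/
noncomputable def numPerm (A : Subgroup (Equiv.Perm α)) : ℕ :=
  Nat.card {g : Equiv.Perm (Orb A) // sz A ∘ g = sz A}

theorem card_N_le (hA : ∀ a ∈ A, a * a = 1) {N : Subgroup (Equiv.Perm α)}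
    (hN : ∀ n ∈ N, ∀ a ∈ A, n * a * n⁻¹ ∈ A) [Fintype (Orb A)] :
    Nat.card N ≤ (∏ i, (sz A i).descFactorial (ex A i + 1)) * numPerm A := by
  classical
  have hf := Fintype.ofFinite α
  choose t ht1 ht2 ht3 using exists_base hA
  set ψ := act A N hN with hψ
  have h1 : Nat.card N = Nat.card ψ.ker * Nat.card ψ.range := by
    rw [Subgroup.card_eq_card_quotient_mul_card_subgroup ψ.ker, mul_comm]
    congr 1
    exact Nat.card_congr (QuotientGroup.quotientKerEquivRange ψ).toEquiv
  rw [h1]
  refine Nat.mul_le_mul ?_ ?_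
  · let F : ψ.ker → (i : Orb A) → (Fin (ex A i + 1) ↪ {x // cl A x = i}) := fun n i =>
      { toFun := fun j => ⟨((n : N) : Equiv.Perm α) (t i j), by
          have h2 : ψ n = 1 := MonoidHom.mem_ker.1 n.2
          have h3 := act_cl A N hN n (t i j)
          rw [← hψ, h2, Equiv.Perm.one_apply] at h3
          rw [← h3, ht2]⟩
        inj' := fun j j' h => ht1 i (((n : N) : Equiv.Perm α).injective (congrArg Subtype.val h)) }
    have hF : Function.Injective F := by
      intro m n hmn
      have h2 : ∀ i j, ((m : N) : Equiv.Perm α) (t i j) = ((n : N) : Equiv.Perm α) (t i j) := by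
        intro i j
        have h3 := congrFun hmn i
        have h4 := congrArg (fun e : Fin (ex A i + 1) ↪ {x // cl A x = i} => ((e j : {x // cl A x = i}) : α)) h3
        exact h4
      have h5 : ∀ y, (((n : N) : Equiv.Perm α)⁻¹ * ((m : N) : Equiv.Perm α)) y = y := by
        intro y
        refine ht3 (cl A y) _ ?_ ?_ y rfl
        · intro a ha
          have h6 : ((n : N) : Equiv.Perm α)⁻¹ * ((m : N) : Equiv.Perm α) ∈ N :=
            N.mul_mem (N.inv_mem (n : N).2) (m : N).2
          exact hN _ h6 a ha
        · intro j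
          rw [Equiv.Perm.mul_apply, h2, Equiv.Perm.inv_eq_iff_eq]
      have h7 : ((n : N) : Equiv.Perm α)⁻¹ * ((m : N) : Equiv.Perm α) = 1 := Equiv.ext h5
      exact Subtype.ext (Subtype.ext (inv_mul_eq_one.1 h7).symm)
    have h2 := Nat.card_le_card_of_injective F hF
    rw [Nat.card_pi] at h2
    refine h2.trans (le_of_eq (Finset.prod_congr rfl fun i _ => ?_))
    rw [Nat.card_eq_fintype_card, Fintype.card_embedding_eq, Fintype.card_fin, sz,
      Nat.card_eq_fintype_card]
  · refine Nat.card_le_card_of_injective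
      (fun g : ψ.range => (⟨(g : Equiv.Perm (Orb A)), ?_⟩ : {g : Equiv.Perm (Orb A) // sz A ∘ g = sz A})) ?_
    · obtain ⟨n, hn⟩ := g.2
      rw [← hn]
      funext i
      exact sz_act A N hN n i
    · intro g g' h
      exact Subtype.ext (congrArg (fun x : {g : Equiv.Perm (Orb A) // sz A ∘ g = sz A} => (x : Equiv.Perm (Orb A))) h)

end perm

end Cfsg.Agent.Omega.AltRow.PermBound
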