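import Cfsg.Agent.Omega.AltRow.PermBound
import Cfsg.Agent.Omega.AltRow.NumBound

/-!
# The shape of an elementary abelian 2-group of permutations (helper77)

`shape A` = the multiset of the exponents of the orbit lengths; `pts_shape`, `card_le_shape`, `card_N_le_wt`.
-/

set_option autoImplicit false

namespace Cfsg.Agent.Omega.AltRow.Shape

open PermBound NumBound
open scoped Nat

variable {α : Type*} [Finite α]

noncomputable local instance instFO (A : Subgroup (Equiv.Perm α)) : Fintype (Orb A) := Fintype.ofFinite _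

/-- the exponents of the orbit lengths -/
noncomputable def shape (A : Subgroup (Equiv.Perm α)) : Multiset ℕ :=
  (Finset.univ : Finset (Orb A)).val.map (ex A)

variable {A : Subgroup (Equiv.Perm α)}

theorem pts_shape (hA : ∀ a ∈ A, a * a = 1) : pts (shape A) = Nat.card α := by
  rw [← sum_sz A, pts, shape, Multiset.map_map]
  show ∑ i, 2 ^ ex A i = _
  exact Finset.sum_congr rfl fun i _ => (sz_eq hA i).symm

theorem card_le_shape (hA : ∀ a ∈ A, a * a = 1) : Nat.card A ≤ 2 ^ (shape A).sum := by
  refine (card_le hA).trans (le_of_eq ?_)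
  show _ = 2 ^ ∑ i, ex A i
  rw [← Finset.prod_pow_eq_pow_sum]
  exact Finset.prod_congr rfl fun i _ => sz_eq hA i

theorem numPerm_eq (hA : ∀ a ∈ A, a * a = 1) :
    numPerm A = ∏ k ∈ (shape A).toFinset, ((shape A).count k)! := by
  classical
  have h1 : numPerm A = Fintype.card {g : Equiv.Perm (Orb A) // ex A ∘ g = ex A} := by
    rw [numPerm, Nat.card_eq_fintype_card]
    refine Fintype.card_congr (Equiv.subtypeEquivRight fun g => ?_)
    constructor
    · intro h
      funext i
      have h2 := congrFun h i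
      simp only [Function.comp_apply, sz_eq hA] at h2 ⊢
      exact Nat.pow_right_injective (le_refl 2) h2
    · intro h
      funext i
      have h2 := congrFun h i
      simp only [Function.comp_apply, sz_eq hA] at h2 ⊢
      rw [h2]
  have h2 := DomMulAct.stabilizer_card' (ex A)
  rw [h1]
  refine (Eq.trans (by congr!) h2).trans ?_
  have h3 : (shape A).toFinset = Finset.univ.image (ex A) := by
    ext k
    simp [shape]
  rw [h3]
  refine Finset.prod_congr rfl fun k _ => ?_
  rw [shape, Multiset.count_map, Fintype.card_subtype]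
  congr 1
  show _ = (Finset.univ.filter (fun a => k = ex A a)).card
  congr 1
  ext i
  simp [eq_comm]

theorem card_N_le_wt (hA : ∀ a ∈ A, a * a = 1) {N : Subgroup (Equiv.Perm α)}
    (hN : ∀ n ∈ N, ∀ a ∈ A, n * a * n⁻¹ ∈ A) : Nat.card N ≤ wt (shape A) := by
  refine (card_N_le hA hN).trans (le_of_eq ?_)
  rw [wt, numPerm_eq hA, shape, Multiset.map_map]
  congr 1
  show _ = ∏ i, (2 ^ ex A i).descFactorial (ex A i + 1)
  exact Finset.prod_congr rfl fun i _ => by rw [sz_eq hA]

/-- number of orbits of length `2^k` -/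
theorem count_shape (hA : ∀ a ∈ A, a * a = 1) (k : ℕ) :
    (shape A).count k = Nat.card {i : Orb A // sz A i = 2 ^ k} := by
  classical
  rw [shape, Multiset.count_map, Nat.card_eq_fintype_card, Fintype.card_subtype]
  show (Finset.univ.filter (fun a => k = ex A a)).card = _
  congr 1
  ext i
  simp only [Finset.mem_filter, Finset.mem_univ, true_and, sz_eq hA]
  constructor
  · intro h; rw [h]
  · intro h; exact (Nat.pow_right_injective (le_refl 2) h).symm

/-- an orbit of length two gives a transposition centralising `A` -/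
theorem exists_swap_of_mem (hA : ∀ a ∈ A, a * a = 1) [DecidableEq α] (h : 1 ∈ shape A ∨ 2 ≤ (shape A).count 0) :
    ∃ x y : α, x ≠ y ∧ ∀ a ∈ A, a * Equiv.swap x y = Equiv.swap x y * a := by
  have key : ∀ x y : α, (∀ a ∈ A, (a x = x ∧ a y = y) ∨ (a x = y ∧ a y = x)) →
      ∀ a ∈ A, a * Equiv.swap x y = Equiv.swap x y * a := by
    intro x y hxy a ha
    have h1 := Equiv.mul_swap_eq_swap_mul a x y
    rcases hxy a ha with ⟨h2, h3⟩ | ⟨h2, h3⟩
    · rw [h1, h2, h3]
    · rw [h1, h2, h3, Equiv.swap_comm]
  rcases h with h | h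
  · obtain ⟨i, -, hi⟩ := Multiset.mem_map.1 h
    obtain ⟨x, hx⟩ := cl_surj A i
    have hsz : sz A i = 2 := by rw [sz_eq hA, hi]; rfl
    -- the other point
    obtain ⟨p, q, hpq, hu⟩ := Nat.card_eq_two_iff.1 hsz
    refine ⟨p, q, fun h => hpq (Subtype.ext h), key p q ?_⟩
    intro a ha
    have h1 : ∀ z : {x // cl A x = i}, z = p ∨ z = q := by
      intro z
      have : z ∈ ({p, q} : Set {x // cl A x = i}) := by rw [hu]; trivial
      simpa using this
    have hp : cl A (a p) = i := by rw [cl_apply ha, p.2]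
    have hq : cl A (a q) = i := by rw [cl_apply ha, q.2]
    have hne : (p : α) ≠ q := fun h => hpq (Subtype.ext h)
    rcases h1 ⟨a p, hp⟩ with h2 | h2 <;> rcases h1 ⟨a q, hq⟩ with h3 | h3
    · have e1 := congrArg Subtype.val h2
      have e2 := congrArg Subtype.val h3
      exact absurd (a.injective (e1.trans e2.symm)) hne
    · exact Or.inl ⟨congrArg Subtype.val h2, congrArg Subtype.val h3⟩
    · exact Or.inr ⟨congrArg Subtype.val h2, congrArg Subtype.val h3⟩
    · have e1 := congrArg Subtype.val h2
      have e2 := congrArg Subtype.val h3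
      exact absurd (a.injective (e1.trans e2.symm)) hne
  · rw [count_shape hA, pow_zero] at h
    have : Finite {i : Orb A // sz A i = 1} := inferInstance
    obtain ⟨i, j, hij⟩ := (Finite.one_lt_card_iff_nontrivial.1 h).exists_pair_ne
    obtain ⟨x, hx⟩ := cl_surj A i.1
    obtain ⟨y, hy⟩ := cl_surj A j.1
    have hfix : ∀ (k : Orb A) (z : α), sz A k = 1 → cl A z = k → ∀ a ∈ A, a z = z := by
      intro k z hk hz a ha
      obtain ⟨hsub, -⟩ := Nat.card_eq_one_iff_unique.1 hk
      exact congrArg Subtype.val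
        (Subsingleton.elim (⟨a z, by rw [cl_apply ha, hz]⟩ : {x // cl A x = k}) ⟨z, hz⟩)
    refine ⟨x, y, ?_, key x y ?_⟩
    · rintro rfl
      exact hij (Subtype.ext (hx.symm.trans hy))
    · intro a ha
      exact Or.inl ⟨hfix i x i.2 hx a ha, hfix j y j.2 hy a ha⟩

end Cfsg.Agent.Omega.AltRow.Shape
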