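import Cfsg.Agent.Omega.EH3.Row
import Cfsg.Agent.Omega.TwoF.PermRank
import Cfsg.Agent.StandardComponent.AltAut
import Cfsg.Agent.StdAlt.Six.AutLemmas

/-!
# The row `A_n` (helper974): the 2-rank of `Aut(A_n)` and the rows `n = 5, 6, 7, 9`

* `rk` : `RK A_n (n / 2)` for `n ≥ 5`, `n ≠ 6`; `rk_six` : `RK A_6 4`;
* `row_small` : `RowEH3 A_n`, `5 ≤ n ≤ 9`.
-/

set_option autoImplicit false
set_option maxRecDepth 100000

namespace Cfsg.Agent.Omega.AltRow

open Equiv Cfsg.Agent.Omega.TwoF Cfsg.Agent.Omega.EH3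
open Cfsg.Agent.StandardComponent.AltAut Cfsg.Agent.SporadicRecognition.AltCover

universe u

/-- the 2-rank of `S_n` -/
theorem perm_rk {n : ℕ} {A : Subgroup (Perm (Fin n))} (hA : ∀ x ∈ A, x ^ 2 = 1) :
    Nat.card A ≤ 2 ^ (n / 2) := by
  have h2 : ∀ a : A, a * a = 1 := fun a => Subtype.ext (by
    have := hA a a.2
    rw [pow_two] at this
    exact this)
  have hf : FaithfulSMul A (Fin n) := ⟨fun {a b} h => Subtype.ext (Equiv.ext fun x => h x)⟩
  have h1 := PermRank.card_sq_le h2 (Ω := Fin n)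
  have h3 : Nat.card (Fin n) = n := by rw [Nat.card_eq_fintype_card, Fintype.card_fin]
  rw [h3] at h1
  exact PermRank.le_of_sq_le (PermRank.card_pow_two h2) h1

theorem rk_of_hom {n : ℕ} (ψ : MulAut (alternatingGroup (Fin n)) →* Perm (Fin n))
    (hψ : ∀ (e : MulAut (alternatingGroup (Fin n))) (x : alternatingGroup (Fin n)),
      ((e x : alternatingGroup (Fin n)) : Perm (Fin n)) = ψ e * x * (ψ e)⁻¹) :
    RK (alternatingGroup (Fin n)) (n / 2) := by
  refine RK.of_injective ψ ?_ fun A hA => perm_rk hA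
  rw [injective_iff_map_eq_one]
  intro e he
  ext x : 1
  apply Subtype.ext
  rw [hψ, he]
  show 1 * (x : Perm (Fin n)) * 1⁻¹ = _
  rw [inv_one, mul_one, one_mul]
  rfl

theorem five_three : ∀ x : Perm (Fin 5), x * x * x = 1 → x ≠ 1 → x.support.card = 3 := by
  decide +kernel

theorem exists_autHom_five : ∃ ψ : MulAut (alternatingGroup (Fin 5)) →* Perm (Fin 5),
    ∀ (e : MulAut (alternatingGroup (Fin 5))) (x : alternatingGroup (Fin 5)),
      ((e x : alternatingGroup (Fin 5)) : Perm (Fin 5)) = ψ e * x * (ψ e)⁻¹ := by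
  have h : ∀ e : MulAut (alternatingGroup (Fin 5)), ∃ σ : Perm (Fin 5),
      ∀ x : alternatingGroup (Fin 5), (e x : Perm (Fin 5)) = σ * x * σ⁻¹ := by
    intro e
    apply Cfsg.Agent.StdAlt.Six.exists_conj_of (m := 3) (by norm_num) e
    intro i hi
    have h1 : ((cy 3 i hi : alternatingGroup (Fin 5)) : Perm (Fin 5)).IsThreeCycle :=
      isThreeCycle_cyc hi
    have h2 : (cy 3 i hi : alternatingGroup (Fin 5)) * cy 3 i hi * cy 3 i hi = 1 := by
      apply Subtype.ext
      have := cube_eq_one h1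
      rw [pow_succ, pow_two] at this
      exact this
    have h3 : (cy 3 i hi : alternatingGroup (Fin 5)) ≠ 1 := by
      intro h4
      rw [h4] at h1
      have := h1.card_support
      simp at this
    apply card_support_eq_three_iff.1
    apply five_three
    · have := congrArg (fun x : alternatingGroup (Fin 5) => (x : Perm (Fin 5))) (congrArg e h2)
      rw [map_mul, map_mul, map_one] at this
      exact this
    · intro h4
      apply h3
      apply e.injective
      rw [map_one]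
      exact Subtype.ext h4
  choose f hf using h
  refine ⟨MonoidHom.mk' f fun a b => ?_, hf⟩
  apply conj_unique (m := 3) (by norm_num)
  intro x
  rw [← hf (a * b) x, MulAut.mul_apply, hf a, hf b]
  group

theorem rk {n : ℕ} (h5 : 5 ≤ n) (h6 : n ≠ 6) : RK (alternatingGroup (Fin n)) (n / 2) := by
  by_cases h7 : 7 ≤ n
  · obtain ⟨ψ, hψ⟩ := exists_autHom n h7
    exact rk_of_hom ψ hψ
  · obtain rfl : n = 5 := by omega
    obtain ⟨ψ, hψ⟩ := exists_autHom_five
    exact rk_of_hom ψ hψ

theorem rk_six : RK (alternatingGroup (Fin 6)) 4 := by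
  intro A hA
  let N : Subgroup (MulAut (alternatingGroup (Fin 6))) :=
    { carrier := {α | Cfsg.Agent.StdAlt.Six.NS α}
      one_mem' := ⟨1, fun x => by rw [inv_one, mul_one, one_mul]; rfl⟩
      mul_mem' := fun ha hb => Cfsg.Agent.StdAlt.Six.NS.mul ha hb
      inv_mem' := fun ha => Cfsg.Agent.StdAlt.Six.NS.inv ha }
  have hN : ∀ α, α ∈ N ↔ Cfsg.Agent.StdAlt.Six.NS α := fun _ => Iff.rfl
  -- `A ∩ N`
  have h1 : Nat.card (A ⊓ N : Subgroup _) ≤ 2 ^ 3 := by
    have hf : ∀ α : (A ⊓ N : Subgroup (MulAut (alternatingGroup (Fin 6)))), ∃ σ : Perm (Fin 6),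
        ∀ x : alternatingGroup (Fin 6), ((α : MulAut (alternatingGroup (Fin 6))) x : Perm (Fin 6)) =
          σ * x * σ⁻¹ := fun α => (Subgroup.mem_inf.1 α.2).2
    choose f hf using hf
    let F : (A ⊓ N : Subgroup (MulAut (alternatingGroup (Fin 6)))) →* Perm (Fin 6) :=
      MonoidHom.mk' f fun a b => by
        apply conj_unique (m := 4) (by norm_num)
        intro x
        rw [← hf (a * b) x, Subgroup.coe_mul, MulAut.mul_apply, hf a, hf b]
        group
    have hF : Function.Injective F := by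
      rw [injective_iff_map_eq_one]
      intro e he
      apply Subtype.ext
      ext x : 1
      apply Subtype.ext
      have h2 : f e = 1 := he
      rw [hf, h2, inv_one, mul_one, one_mul]
      rfl
    have h2 := perm_rk (n := 6) (A := F.range) (by
      rintro _ ⟨x, rfl⟩
      rw [← map_pow]
      have h3 : x ^ 2 = 1 := Subtype.ext (hA x (Subgroup.mem_inf.1 x.2).1)
      rw [h3, map_one])
    rwa [← Nat.card_congr (MonoidHom.ofInjective hF).toEquiv] at h2
  by_cases h2 : A ≤ N
  · rw [inf_eq_left.2 h2] at h1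
    exact h1.trans (by norm_num)
  · obtain ⟨α, hα, hαN⟩ := Set.not_subset.1 h2
    -- `A = (A ∩ N) ∪ α (A ∩ N)`
    let g : (A ⊓ N : Subgroup (MulAut (alternatingGroup (Fin 6)))) × Bool → A := fun x =>
      if x.2 then ⟨x.1, (Subgroup.mem_inf.1 x.1.2).1⟩ else ⟨α * x.1, A.mul_mem hα (Subgroup.mem_inf.1 x.1.2).1⟩
    have hg : Function.Surjective g := by
      rintro ⟨β, hβ⟩
      by_cases h3 : β ∈ N
      · exact ⟨⟨⟨β, Subgroup.mem_inf.2 ⟨hβ, h3⟩⟩, true⟩, rfl⟩
      · have h4 : α⁻¹ * β ∈ N := Cfsg.Agent.StdAlt.Six.NS.mul_of_not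
          (fun h => hαN (by have := N.inv_mem h; rwa [inv_inv] at this)) h3
        refine ⟨⟨⟨α⁻¹ * β, Subgroup.mem_inf.2 ⟨A.mul_mem (A.inv_mem hα) hβ, h4⟩⟩, false⟩, ?_⟩
        apply Subtype.ext
        show α * (α⁻¹ * β) = β
        group
    have h3 := Nat.card_le_card_of_surjective g hg
    rw [Nat.card_prod, Nat.card_eq_fintype_card (α := Bool), Fintype.card_bool] at h3
    omega

theorem center_bot {n : ℕ} (h5 : 5 ≤ n) : Subgroup.center (alternatingGroup (Fin n)) = ⊥ :=
  alternatingGroup.center_eq_bot (by rw [Nat.card_eq_fintype_card, Fintype.card_fin]; omega)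

/-- the rows `5 ≤ n ≤ 9` -/
theorem row_small {n : ℕ} (h5 : 5 ≤ n) (h9 : n ≤ 9) : RowEH3.{u} (alternatingGroup (Fin n)) := by
  have : IsSimpleGroup (alternatingGroup (Fin n)) :=
    alternatingGroup.isSimpleGroup (by rw [Nat.card_eq_fintype_card, Fintype.card_fin]; exact h5)
  by_cases h6 : n = 6
  · subst h6
    exact RowEH3.of_rk (center_bot h5) rk_six
  · exact RowEH3.of_rk (center_bot h5) ((rk h5 h6).mono (by omega))

end Cfsg.Agent.Omega.AltRow
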