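import Cfsg.Agent.Omega.AltRow.End

/-!
# The row `A_n`, last step (helper974): the four types

`Pr blk y`: `y` is an involution (or `1`) preserving the fibres of `blk` and on each fibre trivial or fixed point free.
-/

set_option autoImplicit false

namespace Cfsg.Agent.Omega.AltRow

open Equiv

theorem ap_inv {α : Type*} (g : Perm α) (x : α) : g (g⁻¹ x) = x := g.apply_symm_apply x

theorem inv_ap {α : Type*} (g : Perm α) (x : α) : g⁻¹ (g x) = x := g.symm_apply_apply x

/-- the blocks of `y` -/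
def Pr {n : ℕ} (blk : Fin n → ℕ) (y : Perm (Fin n)) : Prop :=
  y * y = 1 ∧ (∀ i, blk (y i) = blk i) ∧ ∀ i j, blk i = blk j → y i = i → y j = j

instance {n : ℕ} (blk : Fin n → ℕ) (y : Perm (Fin n)) : Decidable (Pr blk y) := by
  unfold Pr; infer_instance

/-- conjugation transports the blocks -/
theorem Pr.conj {n : ℕ} {blk blk' : Fin n → ℕ} {y : Perm (Fin n)} (h : Pr blk y) (g : Perm (Fin n))
    (hg : ∀ i j, blk (g i) = blk (g j) ↔ blk' i = blk' j) : Pr blk' (g⁻¹ * y * g) := by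
  obtain ⟨h1, h2, h3⟩ := h
  refine ⟨?_, ?_, ?_⟩
  · calc (g⁻¹ * y * g) * (g⁻¹ * y * g) = g⁻¹ * (y * y) * g := by group
      _ = 1 := by rw [h1]; group
  · intro i
    rw [← hg]
    show blk (g (g⁻¹ (y (g i)))) = blk (g i)
    rw [ap_inv, h2]
  · intro i j hij hi
    have h4 : y (g i) = g i := by
      have : g⁻¹ (y (g i)) = i := hi
      rw [Perm.inv_eq_iff_eq] at this
      exact this
    have h5 := h3 (g i) (g j) ((hg i j).2 hij) h4
    show g⁻¹ (y (g j)) = j
    rw [h5, inv_ap]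

/-- two elements of a group of type `blk` with the same values at base points are equal -/
theorem eq_of_base {n : ℕ} {blk : Fin n → ℕ} {Y : Subgroup (Perm (Fin n))} (hY : ∀ y ∈ Y, Pr blk y)
    {y y' : Perm (Fin n)} (hy : y ∈ Y) (hy' : y' ∈ Y) (h : ∀ i, ∃ j, blk i = blk j ∧ y j = y' j) :
    y = y' := by
  have h1 := hY _ (Y.mul_mem (Y.inv_mem hy') hy)
  ext i
  obtain ⟨j, hij, hj⟩ := h i
  have h2 : (y'⁻¹ * y) j = j := by
    show y'⁻¹ (y j) = j
    rw [hj, inv_ap]
  have h3 := h1.2.2 j i hij.symm h2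
  have h4 : y'⁻¹ (y i) = i := h3
  rw [Perm.inv_eq_iff_eq] at h4
  rw [h4]

end Cfsg.Agent.Omega.AltRow
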